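import Cfsg.Agent.PermutationGroups.PrimeDegreeHeart
set_option autoImplicit false

namespace Cfsg.Agent.PermutationGroups.PrimePlusOne.Basic

open Polynomial OnePoint

variable {p : ℕ} [hp : Fact p.Prime]

/-- Translation `x ↦ x + b` of the projective line. -/
def tr (b : ZMod p) : Equiv.Perm (OnePoint (ZMod p)) := Equiv.optionCongr (Equiv.addRight b)

theorem tr_infty (b : ZMod p) : tr b ∞ = ∞ := rfl

theorem tr_coe (b x : ZMod p) : tr b (x : OnePoint (ZMod p)) = ((x + b : ZMod p) : OnePoint (ZMod p)) := rfl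

theorem tr_zero : tr (0 : ZMod p) = 1 := by
  apply Equiv.ext
  intro x
  induction x using OnePoint.rec with
  | infty => rfl
  | coe x => rw [tr_coe, add_zero]; rfl

theorem tr_mul (a b : ZMod p) : tr a * tr b = tr (a + b) := by
  apply Equiv.ext
  intro x
  rw [Equiv.Perm.mul_apply]
  induction x using OnePoint.rec with
  | infty => rfl
  | coe x => rw [tr_coe, tr_coe, tr_coe]; congr 1; ring

theorem tr_inv (a : ZMod p) : (tr a)⁻¹ = tr (-a) := by
  rw [inv_eq_iff_mul_eq_one, tr_mul, add_neg_cancel, tr_zero]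

/-- The finite coordinate (with `∞ ↦ 0`). -/
def fin (x : OnePoint (ZMod p)) : ZMod p := Option.elim x 0 id

theorem fin_coe (x : ZMod p) : fin (x : OnePoint (ZMod p)) = x := rfl

theorem fin_infty : fin (∞ : OnePoint (ZMod p)) = 0 := rfl

theorem coe_fin {x : OnePoint (ZMod p)} (hx : x ≠ ∞) : ((fin x : ZMod p) : OnePoint (ZMod p)) = x := by
  induction x using OnePoint.rec with
  | infty => exact absurd rfl hx
  | coe x => rfl

/-- The setting: `G` is a permutation group on the projective line containing the translations,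
in which the stabiliser of `∞` is affine, and `w ∈ G` is an involution swapping `0` and `∞`. -/
structure Setting (G : Subgroup (Equiv.Perm (OnePoint (ZMod p))))
    (w : Equiv.Perm (OnePoint (ZMod p))) : Prop where
  tr_mem : ∀ b : ZMod p, tr b ∈ G
  aff : ∀ g ∈ G, g ∞ = ∞ → ∃ a b : ZMod p, a ≠ 0 ∧
    ∀ x : ZMod p, g x = ((a * x + b : ZMod p) : OnePoint (ZMod p))
  w_mem : w ∈ G
  w_zero : w ((0 : ZMod p) : OnePoint (ZMod p)) = ∞
  w_infty : w ∞ = ((0 : ZMod p) : OnePoint (ZMod p))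
  w_sq : w * w = 1

/-- The multiplier of an affine map. -/
def lam (g : Equiv.Perm (OnePoint (ZMod p))) : ZMod p :=
  fin (g ((1 : ZMod p) : OnePoint (ZMod p))) - fin (g ((0 : ZMod p) : OnePoint (ZMod p)))

theorem lam_of {g : Equiv.Perm (OnePoint (ZMod p))} {a b : ZMod p}
    (h : ∀ x : ZMod p, g x = ((a * x + b : ZMod p) : OnePoint (ZMod p))) : lam g = a := by
  rw [lam, h, h, fin_coe, fin_coe]; ring

theorem lam_one : lam (1 : Equiv.Perm (OnePoint (ZMod p))) = 1 :=
  lam_of (b := 0) (fun x => by rw [one_mul, add_zero]; rfl)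

theorem lam_tr (b : ZMod p) : lam (tr b) = 1 :=
  lam_of (b := b) (fun x => by rw [one_mul]; rfl)

variable {G : Subgroup (Equiv.Perm (OnePoint (ZMod p)))} {w : Equiv.Perm (OnePoint (ZMod p))}

namespace Setting

variable (S : Setting G w)

include S

theorem w_inv : w⁻¹ = w := by
  rw [inv_eq_iff_mul_eq_one]; exact S.w_sq

theorem w_w (x : OnePoint (ZMod p)) : w (w x) = x := by
  rw [← Equiv.Perm.mul_apply, S.w_sq]; rfl

theorem w_ne_infty {x : ZMod p} (hx : x ≠ 0) : w (x : OnePoint (ZMod p)) ≠ ∞ := by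
  intro h
  rw [← S.w_zero] at h
  exact hx (OnePoint.coe_injective (w.injective h))

theorem w_ne_zero (x : ZMod p) : w (x : OnePoint (ZMod p)) ≠ ((0 : ZMod p) : OnePoint (ZMod p)) := by
  intro h
  rw [← S.w_infty] at h
  exact OnePoint.coe_ne_infty x (w.injective h)

theorem coe_fin_w {x : ZMod p} (hx : x ≠ 0) :
    ((fin (w (x : OnePoint (ZMod p))) : ZMod p) : OnePoint (ZMod p)) = w x :=
  coe_fin (S.w_ne_infty hx)

theorem fin_w_ne_zero {x : ZMod p} (hx : x ≠ 0) : fin (w (x : OnePoint (ZMod p))) ≠ 0 := by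
  intro h
  apply S.w_ne_zero x
  rw [← S.coe_fin_w hx, h]

theorem lam_mul {g g' : Equiv.Perm (OnePoint (ZMod p))} (hg : g ∈ G) (hg' : g' ∈ G)
    (h : g ∞ = ∞) (h' : g' ∞ = ∞) : lam (g * g') = lam g * lam g' := by
  obtain ⟨a, b, -, hab⟩ := S.aff g hg h
  obtain ⟨a', b', -, hab'⟩ := S.aff g' hg' h'
  rw [lam_of hab, lam_of hab']
  apply lam_of (b := a * b' + b)
  intro x
  rw [Equiv.Perm.mul_apply, hab', hab]
  congr 1
  ring

theorem lam_ne_zero {g : Equiv.Perm (OnePoint (ZMod p))} (hg : g ∈ G) (h : g ∞ = ∞) :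
    lam g ≠ 0 := by
  obtain ⟨a, b, ha, hab⟩ := S.aff g hg h
  rwa [lam_of hab]

end Setting

/-- Coset representatives for the stabiliser of `∞`. -/
def sec (w : Equiv.Perm (OnePoint (ZMod p))) (x : OnePoint (ZMod p)) :
    Equiv.Perm (OnePoint (ZMod p)) :=
  Option.elim x 1 (fun y => tr y * w)

theorem sec_infty (w : Equiv.Perm (OnePoint (ZMod p))) : sec w ∞ = 1 := rfl

theorem sec_coe (w : Equiv.Perm (OnePoint (ZMod p))) (x : ZMod p) :
    sec w (x : OnePoint (ZMod p)) = tr x * w := rfl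

/-- The derivative cocycle. -/
def coc (w g : Equiv.Perm (OnePoint (ZMod p))) (x : OnePoint (ZMod p)) : ZMod p :=
  lam ((sec w (g x))⁻¹ * g * sec w x)

/-- Abstract cocycles. -/
structure IsCocycle (G : Subgroup (Equiv.Perm (OnePoint (ZMod p))))
    (w : Equiv.Perm (OnePoint (ZMod p)))
    (c : Equiv.Perm (OnePoint (ZMod p)) → OnePoint (ZMod p) → ZMod p) : Prop where
  mul : ∀ g ∈ G, ∀ g' ∈ G, ∀ x, c (g * g') x = c g (g' x) * c g' x
  ne : ∀ g ∈ G, ∀ x, c g x ≠ 0
  tr : ∀ b x, c (tr b) x = 1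
  w_zero : c w ((0 : ZMod p) : OnePoint (ZMod p)) = 1
  w_infty : c w ∞ = 1

theorem IsCocycle.inv {c : Equiv.Perm (OnePoint (ZMod p)) → OnePoint (ZMod p) → ZMod p}
    (h : IsCocycle G w c) : IsCocycle G w (fun g x => (c g x)⁻¹) where
  mul g hg g' hg' x := by rw [h.mul g hg g' hg', mul_inv]
  ne g hg x := inv_ne_zero (h.ne g hg x)
  tr b x := by rw [h.tr, inv_one]
  w_zero := by rw [h.w_zero, inv_one]
  w_infty := by rw [h.w_infty, inv_one]

theorem IsCocycle.one {c : Equiv.Perm (OnePoint (ZMod p)) → OnePoint (ZMod p) → ZMod p}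
    (h : IsCocycle G w c) (x : OnePoint (ZMod p)) : c 1 x = 1 := by
  rw [← tr_zero]
  exact h.tr 0 x

namespace Setting

variable (S : Setting G w)

include S

theorem sec_apply (x : OnePoint (ZMod p)) : sec w x ∞ = x := by
  induction x using OnePoint.rec with
  | infty => rfl
  | coe x => rw [sec_coe, Equiv.Perm.mul_apply, S.w_infty, tr_coe, zero_add]

theorem sec_mem (x : OnePoint (ZMod p)) : sec w x ∈ G := by
  induction x using OnePoint.rec with
  | infty => exact G.one_mem
  | coe x => exact G.mul_mem (S.tr_mem x) S.w_mem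

theorem beta_apply (g : Equiv.Perm (OnePoint (ZMod p))) (x : OnePoint (ZMod p)) :
    ((sec w (g x))⁻¹ * g * sec w x) ∞ = ∞ := by
  rw [Equiv.Perm.mul_apply, Equiv.Perm.mul_apply, S.sec_apply, Equiv.Perm.inv_eq_iff_eq,
    S.sec_apply]

theorem beta_mem {g : Equiv.Perm (OnePoint (ZMod p))} (hg : g ∈ G) (x : OnePoint (ZMod p)) :
    (sec w (g x))⁻¹ * g * sec w x ∈ G :=
  G.mul_mem (G.mul_mem (G.inv_mem (S.sec_mem _)) hg) (S.sec_mem _)

theorem isCocycle_coc : IsCocycle G w (coc w) where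
  mul g hg g' hg' x := by
    rw [coc, coc, coc, ← S.lam_mul (S.beta_mem hg _) (S.beta_mem hg' _) (S.beta_apply _ _)
      (S.beta_apply _ _)]
    rw [Equiv.Perm.mul_apply]
    congr 1
    group
  ne g hg x := S.lam_ne_zero (S.beta_mem hg x) (S.beta_apply g x)
  tr b x := by
    rw [coc]
    induction x using OnePoint.rec with
    | infty =>
      rw [tr_infty, sec_infty, inv_one, one_mul, mul_one, lam_tr]
    | coe x =>
      rw [tr_coe, sec_coe, sec_coe]
      have : (tr (x + b) * w)⁻¹ * tr b * (tr x * w) = 1 := by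
        rw [mul_inv_rev, mul_assoc, mul_assoc, ← mul_assoc (tr b), tr_mul, ← mul_assoc (tr (x+b))⁻¹,
          tr_inv, tr_mul]
        rw [show -(x + b) + (b + x) = 0 by ring, tr_zero, one_mul, inv_mul_cancel]
      rw [this, lam_one]
  w_zero := by
    rw [coc, S.w_zero, sec_infty, sec_coe, tr_zero, inv_one, one_mul, S.w_sq, lam_one]
  w_infty := by
    rw [coc, S.w_infty, sec_infty, sec_coe, tr_zero, one_mul, mul_one, inv_mul_cancel, lam_one]

omit S in
/-- The cocycle at `∞` of an affine map is its multiplier. -/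
theorem coc_infty {g : Equiv.Perm (OnePoint (ZMod p))} (hg : g ∞ = ∞) :
    coc w g ∞ = lam g := by
  rw [coc, hg, sec_infty, inv_one, one_mul, mul_one]

end Setting

end Cfsg.Agent.PermutationGroups.PrimePlusOne.Basic
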