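import Mathlib
import Cfsg.Agent.PermutationGroups.TwoTransitiveNormal

/-!
# Degree `p + 1`: the case where the two-point stabiliser is centralised by a swapping involution

`exists_regular_normal`: transfer to the two-point stabiliser gives a regular normal elementary
abelian 2-subgroup.
-/

set_option autoImplicit false

namespace Cfsg.Agent.PermutationGroups.PrimePlusOne.Central

open OnePoint MulAction

section Setup

variable {p : ℕ} [Fact p.Prime] (G : Subgroup (Equiv.Perm (OnePoint (ZMod p))))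

/-- The stabiliser of `∞` and `0` in `G`. -/
def twoStab : Subgroup G where
  carrier := {h | (h : Equiv.Perm (OnePoint (ZMod p))) ∞ = ∞ ∧
    (h : Equiv.Perm (OnePoint (ZMod p))) ((0 : ZMod p) : OnePoint (ZMod p)) = ((0 : ZMod p) : OnePoint (ZMod p))}
  one_mem' := by simp
  mul_mem' := by
    rintro a b ⟨ha, ha'⟩ ⟨hb, hb'⟩
    simp only [Set.mem_ofPred_eq, Subgroup.coe_mul, Equiv.Perm.coe_mul, Function.comp_apply]
    exact ⟨by rw [hb, ha], by rw [hb', ha']⟩
  inv_mem' := by
    rintro a ⟨ha, ha'⟩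
    simp only [Set.mem_ofPred_eq, Subgroup.coe_inv, Equiv.Perm.inv_eq_iff_eq]
    exact ⟨ha.symm, ha'.symm⟩

theorem mem_twoStab (h : G) : h ∈ twoStab G ↔ (h : Equiv.Perm (OnePoint (ZMod p))) ∞ = ∞ ∧
    (h : Equiv.Perm (OnePoint (ZMod p))) ((0 : ZMod p) : OnePoint (ZMod p)) = ((0 : ZMod p) : OnePoint (ZMod p)) :=
  Iff.rfl

variable (haff : ∀ g ∈ G, g ∞ = ∞ → ∃ a b : ZMod p, a ≠ 0 ∧
  ∀ x : ZMod p, g x = ((a * x + b : ZMod p) : OnePoint (ZMod p)))

include haff in
theorem exists_mul (h : twoStab G) : ∃ a : (ZMod p)ˣ, ∀ x : ZMod p,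
    (h.1 : Equiv.Perm (OnePoint (ZMod p))) x = (((a : ZMod p) * x : ZMod p) : OnePoint (ZMod p)) := by
  obtain ⟨a, b, ha, hab⟩ := haff h.1 h.1.2 h.2.1
  have h0 := hab 0
  rw [mul_zero, zero_add] at h0
  have h1 := h.2.2
  rw [h0] at h1
  have hb : b = 0 := by exact_mod_cast h1
  refine ⟨Units.mk0 a ha, fun x => ?_⟩
  rw [hab x, hb, add_zero]
  rfl

/-- The multiplier of an element of the two-point stabiliser. -/
noncomputable def mult : twoStab G →* (ZMod p)ˣ where
  toFun h := (exists_mul G haff h).choose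
  map_one' := by
    have h := (exists_mul G haff 1).choose_spec 1
    apply Units.ext
    have h2 : ((1 : ZMod p) : OnePoint (ZMod p)) =
      ((((exists_mul G haff 1).choose : ZMod p) * 1 : ZMod p) : OnePoint (ZMod p)) := by
      rw [← h]; rfl
    rw [mul_one] at h2
    rw [Units.val_one]
    exact (OnePoint.coe_injective h2).symm
  map_mul' a b := by
    have h := (exists_mul G haff (a * b)).choose_spec 1
    have ha := (exists_mul G haff a).choose_spec
    have hb := (exists_mul G haff b).choose_spec 1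
    apply Units.ext
    have h2 : ((a * b : twoStab G).1 : Equiv.Perm (OnePoint (ZMod p))) ((1 : ZMod p) : OnePoint (ZMod p)) =
        (a.1 : Equiv.Perm (OnePoint (ZMod p))) ((b.1 : Equiv.Perm (OnePoint (ZMod p))) ((1 : ZMod p) : OnePoint (ZMod p))) := rfl
    rw [h, hb, ha] at h2
    rw [mul_one, mul_one] at h2
    rw [Units.val_mul]
    exact_mod_cast h2

theorem mult_spec (h : twoStab G) (x : ZMod p) : (h.1 : Equiv.Perm (OnePoint (ZMod p))) x =
    (((mult G haff h : (ZMod p)ˣ) : ZMod p) * x : ZMod p) :=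
  (exists_mul G haff h).choose_spec x

theorem mult_injective : Function.Injective (mult G haff) := by
  rw [injective_iff_map_eq_one]
  intro h hh
  apply Subtype.ext
  apply Subtype.ext
  apply Equiv.ext
  intro x
  induction x using OnePoint.rec with
  | infty => exact h.2.1
  | coe x =>
    rw [mult_spec G haff h x, hh, Units.val_one, one_mul]
    rfl

include haff in
theorem twoStab_comm (a b : twoStab G) : a * b = b * a := by
  apply mult_injective G haff
  rw [map_mul, map_mul, mul_comm]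

include haff in
/-- A non-identity element of the two-point stabiliser fixes only `0` and `∞`. -/
theorem eq_of_fixed (h : twoStab G) (hh : h ≠ 1) (x : OnePoint (ZMod p))
    (hx : (h.1 : Equiv.Perm (OnePoint (ZMod p))) x = x) : x = ∞ ∨ x = ((0 : ZMod p) : OnePoint (ZMod p)) := by
  induction x using OnePoint.rec with
  | infty => exact Or.inl rfl
  | coe x =>
    right
    rw [mult_spec G haff h x] at hx
    have hx' : ((mult G haff h : (ZMod p)ˣ) : ZMod p) * x = x := by exact_mod_cast hx
    have h1 : ((mult G haff h : (ZMod p)ˣ) : ZMod p) ≠ 1 := by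
      intro h2
      apply hh
      apply mult_injective G haff
      rw [map_one]
      exact Units.ext h2
    have h3 : (((mult G haff h : (ZMod p)ˣ) : ZMod p) - 1) * x = 0 := by
      rw [sub_mul, hx', one_mul, sub_self]
    rcases mul_eq_zero.mp h3 with h4 | h4
    · exact absurd (sub_eq_zero.mp h4) h1
    · rw [h4]

end Setup

theorem exists_regular_normal {p : ℕ} [Fact p.Prime] (hp2 : p ≠ 2)
    (G : Subgroup (Equiv.Perm (OnePoint (ZMod p))))
    (htr : ∀ b : ZMod p, ∃ g ∈ G, g ∞ = ∞ ∧ ∀ x : ZMod p, g x = ((x + b : ZMod p) : OnePoint (ZMod p)))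
    (haff : ∀ g ∈ G, g ∞ = ∞ → ∃ a b : ZMod p, a ≠ 0 ∧
      ∀ x : ZMod p, g x = ((a * x + b : ZMod p) : OnePoint (ZMod p)))
    (w : Equiv.Perm (OnePoint (ZMod p))) (hw : w ∈ G) (hw0 : w (0 : ZMod p) = ∞)
    (hwi : w ∞ = (0 : ZMod p)) (hww : w * w = 1)
    (hcomm : ∀ h ∈ G, h ∞ = ∞ → h (0 : ZMod p) = (0 : ZMod p) → w * h = h * w)
    (hodd : ∀ h ∈ G, h ∞ = ∞ → h (0 : ZMod p) = (0 : ZMod p) → h * h = 1 → h = 1) :
    ∃ N : Subgroup G, N.Normal ∧ MulAction.IsPretransitive N (OnePoint (ZMod p)) ∧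
      (∀ a : OnePoint (ZMod p), MulAction.stabilizer N a = ⊥) ∧ ∀ n ∈ N, n ^ 2 = 1 := by
  classical
  have hpp : p.Prime := Fact.out
  have hXcard : Nat.card (OnePoint (ZMod p)) = p + 1 := by
    change Nat.card (Option (ZMod p)) = p + 1
    rw [Finite.card_option, Nat.card_zmod]
  have : Finite (OnePoint (ZMod p)) := Nat.finite_of_card_ne_zero (by omega)
  have : Finite (Equiv.Perm (OnePoint (ZMod p))) := inferInstance
  have : Nontrivial (OnePoint (ZMod p)) :=
    ⟨⟨∞, ((0 : ZMod p) : OnePoint (ZMod p)), OnePoint.infty_ne_coe _⟩⟩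
  -- moving a pair to `(∞, 0)`
  have hmove : ∀ a b : OnePoint (ZMod p), a ≠ b → ∃ g : G,
      g • a = ∞ ∧ g • b = ((0 : ZMod p) : OnePoint (ZMod p)) := by
    have h1 : ∀ b : OnePoint (ZMod p), b ≠ ∞ → ∃ g : G, g • (∞ : OnePoint (ZMod p)) = ∞ ∧
        g • b = ((0 : ZMod p) : OnePoint (ZMod p)) := by
      intro b hb
      induction b using OnePoint.rec with
      | infty => exact absurd rfl hb
      | coe b =>
        obtain ⟨g, hg, hgi, hgx⟩ := htr (-b)
        refine ⟨⟨g, hg⟩, hgi, ?_⟩
        change g b = _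
        rw [hgx b, add_neg_cancel]
    have h2 : ∀ a : OnePoint (ZMod p), ∃ g : G, g • a = ∞ := by
      intro a
      induction a using OnePoint.rec with
      | infty => exact ⟨1, one_smul _ _⟩
      | coe a =>
        obtain ⟨g, hg1, hg2⟩ := h1 a (OnePoint.coe_ne_infty a)
        refine ⟨⟨w, hw⟩ * g, ?_⟩
        rw [mul_smul, hg2]
        exact hw0
    intro a b hab
    obtain ⟨g, hg⟩ := h2 a
    obtain ⟨g', hg1, hg2⟩ := h1 (g • b) (by
      intro h
      apply hab
      rw [← h] at hg
      exact smul_left_cancel g hg)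
    exact ⟨g' * g, by rw [mul_smul, hg, hg1], by rw [mul_smul, hg2]⟩
  have h2 : ∀ a b c d : OnePoint (ZMod p), a ≠ b → c ≠ d → ∃ g : G, g • a = c ∧ g • b = d := by
    intro a b c d hab hcd
    obtain ⟨g, hg1, hg2⟩ := hmove a b hab
    obtain ⟨k, hk1, hk2⟩ := hmove c d hcd
    refine ⟨k⁻¹ * g, ?_, ?_⟩
    · rw [mul_smul, hg1, ← hk1, inv_smul_smul]
    · rw [mul_smul, hg2, ← hk2, inv_smul_smul]
  -- the transfer
  set H := twoStab G with hH
  let W : G := ⟨w, hw⟩
  have hWH : ∀ h : G, h ∈ H → W * h = h * W := by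
    intro h hh
    exact Subtype.ext (hcomm h.1 h.2 hh.1 hh.2)
  have hHH : ∀ a ∈ H, ∀ b ∈ H, a * b = b * a := by
    intro a ha b hb
    exact congrArg Subtype.val (twoStab_comm G haff ⟨a, ha⟩ ⟨b, hb⟩)
  have key : ∀ u ∈ H, ∀ g : G, g⁻¹ * u * g ∈ H → g⁻¹ * u * g = u := by
    intro u hu g hg
    by_cases hu1 : u = 1
    · rw [hu1]; group
    have hfix : ∀ x : OnePoint (ZMod p), (g⁻¹ * u * g) • x = x → g • x = ∞ ∨
        g • x = ((0 : ZMod p) : OnePoint (ZMod p)) := by
      intro x hx
      apply eq_of_fixed G haff ⟨u, hu⟩ (fun h => hu1 (congrArg Subtype.val h))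
      change u • (g • x) = g • x
      rw [mul_smul, mul_smul, inv_smul_eq_iff] at hx
      exact hx
    have hc : g ∈ H ∨ W⁻¹ * g ∈ H := by
      rcases hfix ∞ hg.1 with h | h
      · left
        refine ⟨h, ?_⟩
        rcases hfix (0 : ZMod p) hg.2 with h' | h'
        · exfalso
          exact OnePoint.coe_ne_infty _ (smul_left_cancel g (h'.trans h.symm))
        · exact h'
      · right
        have hWi : W⁻¹ • ((0 : ZMod p) : OnePoint (ZMod p)) = ∞ := by
          rw [inv_smul_eq_iff]; exact hwi.symm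
        have hW0 : W⁻¹ • (∞ : OnePoint (ZMod p)) = ((0 : ZMod p) : OnePoint (ZMod p)) := by
          rw [inv_smul_eq_iff]; exact hw0.symm
        refine ⟨?_, ?_⟩
        · change (W⁻¹ * g) • (∞ : OnePoint (ZMod p)) = ∞
          rw [mul_smul, h, hWi]
        · change (W⁻¹ * g) • ((0 : ZMod p) : OnePoint (ZMod p)) = _
          rcases hfix (0 : ZMod p) hg.2 with h' | h'
          · rw [mul_smul, h', hW0]
          · exfalso
            exact OnePoint.coe_ne_infty _ (smul_left_cancel g (h'.trans h.symm))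
    have hgu : u * g = g * u := by
      rcases hc with h | h
      · exact hHH u hu g h
      · have h3 := hHH u hu _ h
        have h4 := hWH u hu
        calc u * g = u * (W * (W⁻¹ * g)) := by group
          _ = (u * W) * (W⁻¹ * g) := by group
          _ = (W * u) * (W⁻¹ * g) := by rw [h4]
          _ = W * (u * (W⁻¹ * g)) := by group
          _ = W * ((W⁻¹ * g) * u) := by rw [h3]
          _ = g * u := by group
    rw [mul_assoc, hgu, inv_mul_cancel_left]
  let ω : G →* (ZMod p)ˣ := MonoidHom.transfer (mult G haff)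
  have hω : ∀ h : H, ω h.1 = (mult G haff h) ^ H.index := by
    intro h
    have h1 := MonoidHom.transfer_eq_pow (mult G haff) (h : G)
      (fun k g₀ hk => key _ (H.pow_mem h.2 k) g₀ hk)
    rw [← map_pow]
    exact h1
  have hidx : H.index = (p + 1) * p := by
    -- orbit of the pair `(∞, 0)`
    have hstab : H = MulAction.stabilizer G ((∞, ((0 : ZMod p) : OnePoint (ZMod p))) :
        OnePoint (ZMod p) × OnePoint (ZMod p)) := by
      ext g
      rw [MulAction.mem_stabilizer_iff, Prod.ext_iff]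
      rfl
    rw [hstab, MulAction.index_stabilizer]
    have horb : MulAction.orbit G ((∞, ((0 : ZMod p) : OnePoint (ZMod p))) :
        OnePoint (ZMod p) × OnePoint (ZMod p)) = {x | x.1 ≠ x.2} := by
      ext ⟨a, b⟩
      constructor
      · rintro ⟨g, hg⟩
        have h1 : g • (∞ : OnePoint (ZMod p)) = a := congrArg Prod.fst hg
        have h2 : g • ((0 : ZMod p) : OnePoint (ZMod p)) = b := congrArg Prod.snd hg
        change a ≠ b
        rw [← h1, ← h2]
        intro h
        exact OnePoint.infty_ne_coe _ (smul_left_cancel g h)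
      · intro hab
        obtain ⟨g, hg1, hg2⟩ := h2 ∞ ((0 : ZMod p) : OnePoint (ZMod p)) a b
          (OnePoint.infty_ne_coe _) hab
        exact ⟨g, Prod.ext hg1 hg2⟩
    rw [horb]
    have := Fintype.ofFinite (OnePoint (ZMod p))
    have e1 : {x : OnePoint (ZMod p) × OnePoint (ZMod p) | x.1 ≠ x.2} =
        (((Finset.univ : Finset (OnePoint (ZMod p))).offDiag :
          Finset (OnePoint (ZMod p) × OnePoint (ZMod p))) : Set _) := by
      ext x
      simp
    rw [e1, Set.ncard_coe_finset, Finset.offDiag_card, Finset.card_univ,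
      ← Nat.card_eq_fintype_card, hXcard]
    have : (p + 1) * (p + 1) = (p + 1) * p + (p + 1) := by ring
    omega
  have hcardu : ∀ z : (ZMod p)ˣ, z ^ (p - 1) = 1 := fun z => ZMod.units_pow_card_sub_one_eq_one p z
  have hp1 : 1 ≤ p - 1 := by have := hpp.two_le; omega
  have hωinj : ∀ h ∈ H, ω h = 1 → h = 1 := by
    intro h hh hω1
    have h3 := hω ⟨h, hh⟩
    rw [hω1, hidx] at h3
    have h4 : (p + 1) * p = (p - 1) * (p + 2) + 2 := by
      obtain ⟨q, hq⟩ : ∃ q, p = q + 1 := ⟨p - 1, by omega⟩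
      rw [hq, Nat.add_sub_cancel]
      ring
    rw [h4, pow_add, pow_mul, hcardu, one_pow, one_mul, ← map_pow] at h3
    have h5 : (⟨h, hh⟩ : H) ^ 2 = 1 := mult_injective G haff (by rw [← h3, map_one])
    have h6 : h.1 * h.1 = 1 := by
      have h7 : h ^ 2 = 1 := congrArg Subtype.val h5
      rw [pow_two] at h7
      exact congrArg Subtype.val h7
    exact Subtype.ext (hodd h.1 h.2 hh.1 hh.2 h6)
  let N0 : Subgroup G := ω.ker
  have hN0n : N0.Normal := inferInstance
  have htwo : ∀ a b : OnePoint (ZMod p), a ≠ b → ∀ g ∈ N0, g • a = a → g • b = b → g = 1 := by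
    intro a b hab g hg hga hgb
    obtain ⟨k, hk1, hk2⟩ := hmove a b hab
    have h1 : k * g * k⁻¹ ∈ N0 := hN0n.conj_mem g hg k
    have h2 : k * g * k⁻¹ ∈ H := by
      refine ⟨?_, ?_⟩
      · change (k * g * k⁻¹) • (∞ : OnePoint (ZMod p)) = ∞
        rw [← hk1, mul_smul, mul_smul, inv_smul_smul, hga]
      · change (k * g * k⁻¹) • ((0 : ZMod p) : OnePoint (ZMod p)) = _
        rw [← hk2, mul_smul, mul_smul, inv_smul_smul, hgb]
    have h3 := hωinj _ h2 h1
    rw [conj_eq_one_iff] at h3
    exact h3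
  -- translations are in the kernel
  have htrans : ∀ g : G, g • (∞ : OnePoint (ZMod p)) = ∞ → ∀ b : ZMod p,
      (∀ x : ZMod p, g • (x : OnePoint (ZMod p)) = ((x + b : ZMod p) : OnePoint (ZMod p))) →
      g ∈ N0 := by
    intro g hgi b hgb
    have hpow : ∀ n : ℕ, (g ^ n) • (∞ : OnePoint (ZMod p)) = ∞ ∧ ∀ x : ZMod p,
        (g ^ n) • (x : OnePoint (ZMod p)) = ((x + n * b : ZMod p) : OnePoint (ZMod p)) := by
      intro n
      induction n with
      | zero => simp
      | succ n ih =>
        refine ⟨by rw [pow_succ, mul_smul, hgi, ih.1], fun x => ?_⟩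
        rw [pow_succ, mul_smul, hgb, ih.2]
        congr 1
        push_cast
        ring
    have hgp : g ^ p = 1 := by
      apply Subtype.ext
      apply Equiv.ext
      intro x
      induction x using OnePoint.rec with
      | infty => exact (hpow p).1
      | coe x =>
        have h1 := (hpow p).2 x
        rw [CharP.cast_eq_zero, zero_mul, add_zero] at h1
        exact h1
    change ω g = 1
    have h1 : (ω g) ^ p = 1 := by rw [← map_pow, hgp, map_one]
    have h2 := hcardu (ω g)
    have h3 : (ω g) ^ ((p - 1) + 1) = 1 := by rw [Nat.sub_add_cancel (by omega)]; exact h1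
    rw [pow_add, h2, one_mul, pow_one] at h3
    exact h3
  have htransN : MulAction.IsPretransitive N0 (OnePoint (ZMod p)) := by
    -- translations in `N0`
    have hT : ∀ b : ZMod p, ∃ g ∈ N0, g • (∞ : OnePoint (ZMod p)) = ∞ ∧
        ∀ x : ZMod p, g • (x : OnePoint (ZMod p)) = ((x + b : ZMod p) : OnePoint (ZMod p)) := by
      intro b
      obtain ⟨g, hg, hgi, hgx⟩ := htr b
      exact ⟨⟨g, hg⟩, htrans ⟨g, hg⟩ hgi b hgx, hgi, hgx⟩
    have h0 : ∀ x : OnePoint (ZMod p), ∃ g : N0, g • ((0 : ZMod p) : OnePoint (ZMod p)) = x := by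
      intro x
      induction x using OnePoint.rec with
      | coe x =>
        obtain ⟨g, hg, -, hgx⟩ := hT x
        refine ⟨⟨g, hg⟩, ?_⟩
        have := hgx 0
        rw [zero_add] at this
        exact this
      | infty =>
        -- conjugate of a translation by `w` moves `∞`
        obtain ⟨t, ht, hti, htx⟩ := hT 1
        have hc : W * t * W⁻¹ ∈ N0 := hN0n.conj_mem t ht W
        have h1 : (W * t * W⁻¹) • (∞ : OnePoint (ZMod p)) =
            W • ((1 : ZMod p) : OnePoint (ZMod p)) := by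
          have hWi : W⁻¹ • (∞ : OnePoint (ZMod p)) = ((0 : ZMod p) : OnePoint (ZMod p)) := by
            rw [inv_smul_eq_iff]; exact hw0.symm
          rw [mul_smul, mul_smul, hWi, htx, zero_add]
        have h2 : W • ((1 : ZMod p) : OnePoint (ZMod p)) ≠ ∞ := by
          intro h
          have h3 : W • ((1 : ZMod p) : OnePoint (ZMod p)) =
            W • ((0 : ZMod p) : OnePoint (ZMod p)) := by rw [h]; exact hw0.symm
          have h4 := OnePoint.coe_injective (smul_left_cancel W h3)
          exact one_ne_zero h4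
        obtain ⟨c, hc'⟩ := OnePoint.ne_infty_iff_exists.mp h2
        obtain ⟨s, hs, -, hsx⟩ := hT (-c)
        refine ⟨⟨(s * (W * t * W⁻¹))⁻¹, N0.inv_mem (N0.mul_mem hs hc)⟩, ?_⟩
        change (s * (W * t * W⁻¹))⁻¹ • ((0 : ZMod p) : OnePoint (ZMod p)) = ∞
        rw [inv_smul_eq_iff, mul_smul, h1, ← hc', hsx, add_neg_cancel]
    refine ⟨fun x y => ?_⟩
    obtain ⟨g, hg⟩ := h0 x
    obtain ⟨k, hk⟩ := h0 y
    exact ⟨k * g⁻¹, by rw [mul_smul, ← hg, inv_smul_smul, hk]⟩
  obtain ⟨K, hKn, -, hKt, hKs, -⟩ :=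
    Cfsg.Agent.PermutationGroups.TwoTransitiveNormal.exists_regular_normal_of_two_point_trivial
      h2 N0 htwo
  obtain ⟨-, r, hr, hr'⟩ :=
    Cfsg.Agent.PermutationGroups.TwoTransitiveNormal.regular_normal_elementary_abelian h2 K hKs
  refine ⟨K, hKn, hKt, hKs, ?_⟩
  -- `|K| = p + 1` is even, so `r = 2`
  have hKcard : Nat.card K = p + 1 := by
    have h1 := Subgroup.card_mul_index (MulAction.stabilizer K (∞ : OnePoint (ZMod p)))
    rw [hKs, Subgroup.card_bot, one_mul, Subgroup.index_bot] at h1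
    rw [← hXcard, ← MulAction.index_stabilizer_of_transitive K (∞ : OnePoint (ZMod p)), hKs,
      Subgroup.index_bot]
  have h2dvd : 2 ∣ Nat.card K := by
    rw [hKcard]
    have := hpp.eq_two_or_odd
    omega
  have : Fact (Nat.Prime 2) := ⟨Nat.prime_two⟩
  obtain ⟨x, hx⟩ := exists_prime_orderOf_dvd_card' (G := K) 2 h2dvd
  have h3 : x ^ r = 1 := Subtype.ext (hr' x.1 x.2)
  have h4 : 2 ∣ r := by rw [← hx]; exact orderOf_dvd_of_pow_eq_one h3
  have h5 : r = 2 := ((Nat.prime_dvd_prime_iff_eq Nat.prime_two hr).mp h4).symm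
  rw [h5] at hr'
  exact hr'

end Cfsg.Agent.PermutationGroups.PrimePlusOne.Central
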