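import Cfsg.Agent.PermutationGroups.PrimePlusOne.Basic

/-!
Doubly transitive groups of degree `p + 1` with affine point stabiliser: if the involution `w`
swapping `0` and `∞` centralises the stabiliser of `0` and `∞`, and this stabiliser has even
order, then `w x = s / x` (and in fact `p ≤ 5`).
-/

set_option autoImplicit false

namespace Cfsg.Agent.PermutationGroups.PrimePlusOne.CentralEven

open OnePoint Cfsg.Agent.PermutationGroups.PrimePlusOne.Basic

variable {p : ℕ} [hp : Fact p.Prime]
variable {G : Subgroup (Equiv.Perm (OnePoint (ZMod p)))} {w : Equiv.Perm (OnePoint (ZMod p))}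

/-- Double transitivity. -/
theorem two_transitive (S : Setting G w) (x y : OnePoint (ZMod p)) (hxy : x ≠ y) :
    ∃ g ∈ G, g ((0 : ZMod p) : OnePoint (ZMod p)) = x ∧ g ∞ = y := by
  have h1 : (sec w y)⁻¹ x ≠ ∞ := by
    intro h
    rw [Equiv.Perm.inv_eq_iff_eq, S.sec_apply] at h
    exact hxy h
  refine ⟨sec w y * tr (fin ((sec w y)⁻¹ x)), G.mul_mem (S.sec_mem y) (S.tr_mem _), ?_, ?_⟩
  · rw [Equiv.Perm.mul_apply, tr_coe, zero_add, coe_fin h1]
    exact (sec w y).apply_symm_apply x
  · rw [Equiv.Perm.mul_apply, tr_infty, S.sec_apply]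

/-- Elements fixing `0` and `∞` are dilations. -/
theorem dil_of_fix (S : Setting G w) {g : Equiv.Perm (OnePoint (ZMod p))} (hg : g ∈ G)
    (hi : g ∞ = ∞) (h0 : g ((0 : ZMod p) : OnePoint (ZMod p)) = ((0 : ZMod p) : OnePoint (ZMod p))) :
    ∃ a : ZMod p, a ≠ 0 ∧ ∀ x : ZMod p, g x = ((a * x : ZMod p) : OnePoint (ZMod p)) := by
  obtain ⟨a, b, ha, hab⟩ := S.aff g hg hi
  have hb : b = 0 := by
    have := hab 0
    rw [h0, mul_zero, zero_add] at this
    exact (OnePoint.coe_injective this).symm
  subst hb
  exact ⟨a, ha, fun x => by rw [hab, add_zero]⟩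

/-- An involution fixing `0` and `∞` is `x ↦ -x`. -/
theorem neg_of_invol (S : Setting G w) {g : Equiv.Perm (OnePoint (ZMod p))} (hg : g ∈ G)
    (hi : g ∞ = ∞) (h0 : g ((0 : ZMod p) : OnePoint (ZMod p)) = ((0 : ZMod p) : OnePoint (ZMod p)))
    (hgg : g * g = 1) :
    g = 1 ∨ ∀ x : ZMod p, g x = ((-x : ZMod p) : OnePoint (ZMod p)) := by
  obtain ⟨a, ha, hax⟩ := dil_of_fix S hg hi h0
  have h1 : a * a = 1 := by
    have h2 : (g * g) ((1 : ZMod p) : OnePoint (ZMod p)) = ((1 : ZMod p) : OnePoint (ZMod p)) := by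
      rw [hgg]; rfl
    rw [Equiv.Perm.mul_apply, hax, hax, mul_one] at h2
    exact OnePoint.coe_injective h2
  rcases mul_self_eq_one_iff.1 h1 with h | h
  · left
    apply Equiv.ext
    intro x
    induction x using OnePoint.rec with
    | infty => rw [hi]; rfl
    | coe x => rw [hax, h, one_mul]; rfl
  · right
    intro x
    rw [hax, h, neg_one_mul]

theorem moebius_of_central_even (hp2 : p ≠ 2) (S : Setting G w)
    (hcomm : ∀ h ∈ G, h ∞ = ∞ →
      h ((0 : ZMod p) : OnePoint (ZMod p)) = ((0 : ZMod p) : OnePoint (ZMod p)) → w * h = h * w)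
    {z : Equiv.Perm (OnePoint (ZMod p))} (hz : z ∈ G) (hzi : z ∞ = ∞)
    (hz0 : z ((0 : ZMod p) : OnePoint (ZMod p)) = ((0 : ZMod p) : OnePoint (ZMod p)))
    (hzz : z * z = 1) (hz1 : z ≠ 1) :
    ∃ s : ZMod p, s ≠ 0 ∧ ∀ x : ZMod p, x ≠ 0 →
      w (x : OnePoint (ZMod p)) = ((s * x⁻¹ : ZMod p) : OnePoint (ZMod p)) := by
  have htwo : (2 : ZMod p) ≠ 0 := by
    intro h
    have h1 : ((2 : ℕ) : ZMod p) = 0 := by exact_mod_cast h
    rw [ZMod.natCast_eq_zero_iff] at h1
    exact hp2 ((Nat.prime_dvd_prime_iff_eq hp.out Nat.prime_two).1 h1)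
  have hne : ∀ x : ZMod p, x ≠ 0 → x ≠ -x := by
    intro x hx h
    have h1 : 2 * x = 0 := by linear_combination h
    rcases mul_eq_zero.1 h1 with h2 | h2
    · exact htwo h2
    · exact hx h2
  have hzx : ∀ x : ZMod p, z x = ((-x : ZMod p) : OnePoint (ZMod p)) := by
    rcases neg_of_invol S hz hzi hz0 hzz with h | h
    · exact absurd h hz1
    · exact h
  have hzfix : ∀ x : OnePoint (ZMod p), z x = x → x = ∞ ∨ x = ((0 : ZMod p) : OnePoint (ZMod p)) := by
    intro x hx
    induction x using OnePoint.rec with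
    | infty => left; rfl
    | coe x =>
      right
      rw [hzx] at hx
      by_contra h
      have hx0 : x ≠ 0 := fun h0 => h (by rw [h0])
      exact hne x hx0 (OnePoint.coe_injective hx).symm
  have hwz : w * z = z * w := hcomm z hz hzi hz0
  -- the dichotomy
  have dich : ∀ x : ZMod p, x ≠ 0 →
      ((w (x : OnePoint (ZMod p)) = (x : OnePoint (ZMod p)) ∧
        ∀ y : ZMod p, w (y : OnePoint (ZMod p)) = (y : OnePoint (ZMod p)) → y = x ∨ y = -x) ∨
      (w (x : OnePoint (ZMod p)) = ((-x : ZMod p) : OnePoint (ZMod p)) ∧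
        ∀ y : ZMod p, w (y : OnePoint (ZMod p)) = ((-y : ZMod p) : OnePoint (ZMod p)) →
          y = x ∨ y = -x)) := by
    intro x hx
    obtain ⟨g, hg, hg0, hgi⟩ := two_transitive S (x : OnePoint (ZMod p))
      ((-x : ZMod p) : OnePoint (ZMod p)) (fun h => hne x hx (OnePoint.coe_injective h))
    set u := g * z * g⁻¹ with hu
    have huG : u ∈ G := G.mul_mem (G.mul_mem hg hz) (G.inv_mem hg)
    have hginv0 : g⁻¹ (x : OnePoint (ZMod p)) = ((0 : ZMod p) : OnePoint (ZMod p)) := by
      rw [Equiv.Perm.inv_eq_iff_eq, hg0]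
    have hginvi : g⁻¹ ((-x : ZMod p) : OnePoint (ZMod p)) = ∞ := by
      rw [Equiv.Perm.inv_eq_iff_eq, hgi]
    have hux : u (x : OnePoint (ZMod p)) = (x : OnePoint (ZMod p)) := by
      rw [hu, Equiv.Perm.mul_apply, Equiv.Perm.mul_apply, hginv0, hz0, hg0]
    have hunx : u ((-x : ZMod p) : OnePoint (ZMod p)) = ((-x : ZMod p) : OnePoint (ZMod p)) := by
      rw [hu, Equiv.Perm.mul_apply, Equiv.Perm.mul_apply, hginvi, hzi, hgi]
    have huu : u * u = 1 := by
      rw [hu]
      calc g * z * g⁻¹ * (g * z * g⁻¹) = g * (z * z) * g⁻¹ := by group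
        _ = 1 := by rw [hzz]; group
    have hufix : ∀ y : OnePoint (ZMod p), u y = y →
        y = (x : OnePoint (ZMod p)) ∨ y = ((-x : ZMod p) : OnePoint (ZMod p)) := by
      intro y hy
      have h1 : z (g⁻¹ y) = g⁻¹ y := by
        rw [hu, Equiv.Perm.mul_apply, Equiv.Perm.mul_apply] at hy
        rw [Equiv.Perm.eq_inv_iff_eq]
        exact hy
      rcases hzfix _ h1 with h2 | h2
      · right
        rw [Equiv.Perm.inv_eq_iff_eq, hgi] at h2
        exact h2
      · left
        rw [Equiv.Perm.inv_eq_iff_eq, hg0] at h2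
        exact h2
    -- `z` commutes with `u`
    have hzu : z * u * z = u := by
      have h1 : g⁻¹ * (z * u * z) * g ∈ G :=
        G.mul_mem (G.mul_mem (G.inv_mem hg) (G.mul_mem (G.mul_mem hz huG) hz)) hg
      have h2 : (g⁻¹ * (z * u * z) * g) ∞ = ∞ := by
        simp only [Equiv.Perm.mul_apply]
        rw [hgi, hzx, neg_neg, hux, hzx, hginvi]
      have h3 : (g⁻¹ * (z * u * z) * g) ((0 : ZMod p) : OnePoint (ZMod p)) =
          ((0 : ZMod p) : OnePoint (ZMod p)) := by
        simp only [Equiv.Perm.mul_apply]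
        rw [hg0, hzx, hunx, hzx, neg_neg, hginv0]
      have h4 : (g⁻¹ * (z * u * z) * g) * (g⁻¹ * (z * u * z) * g) = 1 := by
        calc (g⁻¹ * (z * u * z) * g) * (g⁻¹ * (z * u * z) * g)
            = g⁻¹ * (z * (u * (z * z) * u) * z) * g := by group
          _ = 1 := by rw [hzz, mul_one, huu, mul_one, hzz]; group
      have h5 : g⁻¹ * (z * u * z) * g = z := by
        rcases neg_of_invol S h1 h2 h3 h4 with h | h
        · exfalso
          apply hz1
          have h6 : u = 1 := by
            have h7 : z * u * z = 1 := by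
              calc z * u * z = g * (g⁻¹ * (z * u * z) * g) * g⁻¹ := by group
                _ = 1 := by rw [h]; group
            calc u = (z * z) * u * (z * z) := by rw [hzz]; group
              _ = z * (z * u * z) * z := by group
              _ = 1 := by rw [h7, mul_one, hzz]
          calc z = g⁻¹ * u * g := by rw [hu]; group
            _ = 1 := by rw [h6]; group
        · apply Equiv.ext
          intro y
          induction y using OnePoint.rec with
          | infty => rw [h2, hzi]
          | coe y => rw [h, hzx]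
      calc z * u * z = g * (g⁻¹ * (z * u * z) * g) * g⁻¹ := by group
        _ = u := by rw [h5]
    have hzu' : z * u = u * z := by
      calc z * u = (z * u * z) * z := by rw [mul_assoc, hzz, mul_one]
        _ = u * z := by rw [hzu]
    -- `u` swaps `0` and `∞`
    have hu0 : u ((0 : ZMod p) : OnePoint (ZMod p)) = ∞ := by
      have h1 : z (u ((0 : ZMod p) : OnePoint (ZMod p))) = u ((0 : ZMod p) : OnePoint (ZMod p)) := by
        rw [← Equiv.Perm.mul_apply, hzu', Equiv.Perm.mul_apply, hz0]
      rcases hzfix _ h1 with h2 | h2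
      · exact h2
      · exfalso
        rcases hufix _ h2 with h3 | h3
        · exact hx (OnePoint.coe_injective h3).symm
        · have h4 : (0 : ZMod p) = -x := OnePoint.coe_injective h3
          exact hx (neg_eq_zero.1 h4.symm)
    have hui : u ∞ = ((0 : ZMod p) : OnePoint (ZMod p)) := by
      rw [← hu0, ← Equiv.Perm.mul_apply, huu]; rfl
    -- `w * u` is a dilation by `±1`
    have hwu0 : (w * u) ((0 : ZMod p) : OnePoint (ZMod p)) = ((0 : ZMod p) : OnePoint (ZMod p)) := by
      rw [Equiv.Perm.mul_apply, hu0, S.w_infty]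
    have hwui : (w * u) ∞ = ∞ := by
      rw [Equiv.Perm.mul_apply, hui, S.w_zero]
    have hwuG : w * u ∈ G := G.mul_mem S.w_mem huG
    have hwu2 : (w * u) * (w * u) = 1 := by
      have h1 := hcomm _ hwuG hwui hwu0
      calc (w * u) * (w * u) = ((w * u) * w) * u := by group
        _ = (w * (w * u)) * u := by rw [← h1]
        _ = (w * w) * (u * u) := by group
        _ = 1 := by rw [S.w_sq, huu, one_mul]
    rcases neg_of_invol S hwuG hwui hwu0 hwu2 with h | h
    · left
      have hwu : w = u := by
        rw [mul_eq_one_iff_eq_inv] at h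
        rw [h]
        exact inv_eq_of_mul_eq_one_left huu
      refine ⟨by rw [hwu]; exact hux, fun y hy => ?_⟩
      rw [hwu] at hy
      rcases hufix _ hy with h1 | h1
      · left; exact OnePoint.coe_injective h1
      · right; exact OnePoint.coe_injective h1
    · right
      have hwy : ∀ y : OnePoint (ZMod p), w y = u (z y) := by
        have h1 : w * u = z := by
          apply Equiv.ext
          intro y
          induction y using OnePoint.rec with
          | infty => rw [hwui, hzi]
          | coe y => rw [h, hzx]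
        have h2 : w = u * z := by
          rw [← hzu', ← h1, mul_assoc, huu, mul_one]
        intro y
        rw [h2, Equiv.Perm.mul_apply]
      refine ⟨by rw [hwy, hzx, hunx], fun y hy => ?_⟩
      rw [hwy, hzx] at hy
      rcases hufix _ hy with h1 | h1
      · right
        have := OnePoint.coe_injective h1
        rw [← this, neg_neg]
      · left
        have := OnePoint.coe_injective h1
        exact neg_injective this
  -- conclusion
  have final : ∀ y : ZMod p, y ≠ 0 → y ≠ 1 → y ≠ -1 →
      (∀ t : ZMod p, t ≠ 0 → (t = 1 ∨ t = -1) ∨ (t = y ∨ t = -y)) → y ^ 2 = -1 := by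
    intro y hy hy1 hyn h
    have ha : y + 1 ≠ 0 := fun h0 => hyn (by linear_combination h0)
    have hb : y - 1 ≠ 0 := fun h0 => hy1 (by linear_combination h0)
    have h1 : y = -2 ∨ 2 * y = -1 := by
      rcases h _ ha with (h2 | h2) | (h2 | h2)
      · exact absurd (by linear_combination h2) hy
      · left; linear_combination h2
      · exact absurd (by linear_combination h2) (one_ne_zero (α := ZMod p))
      · right; linear_combination h2
    have h2 : y = 2 ∨ 2 * y = 1 := by
      rcases h _ hb with (h2 | h2) | (h2 | h2)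
      · left; linear_combination h2
      · exact absurd (by linear_combination h2) hy
      · exact absurd (by linear_combination -h2) (one_ne_zero (α := ZMod p))
      · right; linear_combination h2
    rcases h1 with h1 | h1 <;> rcases h2 with h2 | h2
    · exfalso
      have h3 : (2 : ZMod p) * 2 = 0 := by linear_combination h1 - h2
      rcases mul_eq_zero.1 h3 with h4 | h4 <;> exact htwo h4
    · subst h1
      linear_combination -h2
    · subst h2
      linear_combination h1
    · exfalso
      have h3 : (2 : ZMod p) = 0 := by linear_combination h1 - h2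
      exact htwo h3
  rcases dich 1 one_ne_zero with ⟨h1, h1'⟩ | ⟨h1, h1'⟩
  · refine ⟨1, one_ne_zero, fun y hy => ?_⟩
    by_cases hy1 : y = 1
    · subst hy1; rw [h1, inv_one, mul_one]
    by_cases hyn : y = -1
    · subst hyn
      have h2 : w (((-1 : ZMod p)) : OnePoint (ZMod p)) = ((-1 : ZMod p) : OnePoint (ZMod p)) := by
        rw [← hzx, ← Equiv.Perm.mul_apply, hwz, Equiv.Perm.mul_apply, h1, hzx]
      rw [h2, inv_neg, inv_one, one_mul]
    rcases dich y hy with ⟨h2, -⟩ | ⟨h2, h2'⟩
    · exfalso
      rcases h1' y h2 with h3 | h3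
      · exact hy1 h3
      · exact hyn h3
    · have h3 : y ^ 2 = -1 := by
        apply final y hy hy1 hyn
        intro t ht
        rcases dich t ht with ⟨h4, -⟩ | ⟨h4, -⟩
        · exact Or.inl (h1' t h4)
        · exact Or.inr (h2' t h4)
      rw [h2]
      congr 1
      field_simp
      linear_combination -h3
  · refine ⟨-1, neg_ne_zero.2 one_ne_zero, fun y hy => ?_⟩
    by_cases hy1 : y = 1
    · subst hy1; rw [h1, inv_one, mul_one]
    by_cases hyn : y = -1
    · subst hyn
      have h2 : w (((-1 : ZMod p)) : OnePoint (ZMod p)) = ((1 : ZMod p) : OnePoint (ZMod p)) := by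
        rw [← hzx, ← Equiv.Perm.mul_apply, hwz, Equiv.Perm.mul_apply, h1, hzx, neg_neg]
      rw [h2, inv_neg, inv_one]
      congr 1
      ring
    rcases dich y hy with ⟨h2, h2'⟩ | ⟨h2, -⟩
    · have h3 : y ^ 2 = -1 := by
        apply final y hy hy1 hyn
        intro t ht
        rcases dich t ht with ⟨h4, -⟩ | ⟨h4, -⟩
        · exact Or.inr (h2' t h4)
        · exact Or.inl (h1' t h4)
      rw [h2]
      congr 1
      field_simp
      linear_combination h3
    · exfalso
      rcases h1' y h2 with h3 | h3
      · exact hy1 h3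
      · exact hyn h3

end Cfsg.Agent.PermutationGroups.PrimePlusOne.CentralEven
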