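import Cfsg.Agent.PermutationGroups.PrimePlusOne.Basic
import Cfsg.Agent.Lib.Mobius

/-!
Identification of `PGL(2,p)` and `PSL(2,p)` once the involution `w` swapping `0` and `∞` is a
Moebius transformation.
-/

set_option autoImplicit false

namespace Cfsg.Agent.PermutationGroups.PrimePlusOne.Identify

open OnePoint Cfsg.Agent.PermutationGroups.PrimePlusOne.Basic

variable {p : ℕ} [hp : Fact p.Prime]
variable {G : Subgroup (Equiv.Perm (OnePoint (ZMod p)))} {w : Equiv.Perm (OnePoint (ZMod p))}

/-- The dilation `x ↦ a x`. -/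
def dil (a : (ZMod p)ˣ) : Equiv.Perm (OnePoint (ZMod p)) := Equiv.optionCongr (Units.mulLeft a)

theorem dil_infty (a : (ZMod p)ˣ) : dil a ∞ = ∞ := rfl

theorem dil_coe (a : (ZMod p)ˣ) (x : ZMod p) :
    dil a (x : OnePoint (ZMod p)) = (((a : ZMod p) * x : ZMod p) : OnePoint (ZMod p)) := rfl

/-- Dilations as a homomorphism. -/
def dilHom : (ZMod p)ˣ →* Equiv.Perm (OnePoint (ZMod p)) where
  toFun := dil
  map_one' := by
    apply Equiv.ext
    intro x
    induction x using OnePoint.rec with
    | infty => rfl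
    | coe x => rw [dil_coe, Units.val_one, one_mul]; rfl
  map_mul' a b := by
    apply Equiv.ext
    intro x
    rw [Equiv.Perm.mul_apply]
    induction x using OnePoint.rec with
    | infty => rfl
    | coe x => rw [dil_coe, dil_coe, dil_coe, Units.val_mul, mul_assoc]

/-- The multipliers of the dilations in `G`. -/
def mult (G : Subgroup (Equiv.Perm (OnePoint (ZMod p)))) : Subgroup (ZMod p)ˣ := G.comap dilHom

theorem mem_mult {a : (ZMod p)ˣ} : a ∈ mult G ↔ dil a ∈ G := Iff.rfl

/-- Affine decomposition. -/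
theorem exists_tr_dil (S : Setting G w) {g : Equiv.Perm (OnePoint (ZMod p))} (hg : g ∈ G)
    (h : g ∞ = ∞) : ∃ (b : ZMod p) (a : (ZMod p)ˣ), a ∈ mult G ∧ g = tr b * dil a := by
  obtain ⟨a, b, ha, hab⟩ := S.aff g hg h
  have h1 : g = tr b * dil (Units.mk0 a ha) := by
    apply Equiv.ext
    intro x
    rw [Equiv.Perm.mul_apply]
    induction x using OnePoint.rec with
    | infty => rw [h, dil_infty, tr_infty]
    | coe x => rw [hab, dil_coe, tr_coe, Units.val_mk0]
  refine ⟨b, Units.mk0 a ha, ?_, h1⟩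
  rw [mem_mult]
  have h2 : dil (Units.mk0 a ha) = (tr b)⁻¹ * g := by rw [h1, inv_mul_cancel_left]
  rw [h2]
  exact G.mul_mem (G.inv_mem (S.tr_mem b)) hg

theorem exists_decomp (S : Setting G w) {g : Equiv.Perm (OnePoint (ZMod p))} (hg : g ∈ G) :
    ∃ (b : ZMod p) (a : (ZMod p)ˣ), a ∈ mult G ∧ g = sec w (g ∞) * (tr b * dil a) := by
  have h1 : ((sec w (g ∞))⁻¹ * g) ∞ = ∞ := by
    rw [Equiv.Perm.mul_apply, Equiv.Perm.inv_eq_iff_eq, S.sec_apply]
  obtain ⟨b, a, ha, hab⟩ := exists_tr_dil S (G.mul_mem (G.inv_mem (S.sec_mem (g ∞))) hg) h1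
  exact ⟨b, a, ha, by rw [← hab, mul_inv_cancel_left]⟩

theorem card_eq (S : Setting G w) : Nat.card G = (p + 1) * p * Nat.card (mult G) := by
  let φ : OnePoint (ZMod p) × ZMod p × mult G → G := fun t =>
    ⟨sec w t.1 * (tr t.2.1 * dil t.2.2.1),
      G.mul_mem (S.sec_mem _) (G.mul_mem (S.tr_mem _) t.2.2.2)⟩
  have hφ : Function.Bijective φ := by
    constructor
    · rintro ⟨y, b, a⟩ ⟨y', b', a'⟩ h
      have h1 : sec w y * (tr b * dil a.1) = sec w y' * (tr b' * dil a'.1) :=
        congrArg Subtype.val h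
      have h2 : y = y' := by
        have h3 := congrArg (fun g : Equiv.Perm (OnePoint (ZMod p)) => g ∞) h1
        simp only [Equiv.Perm.mul_apply, dil_infty, tr_infty, S.sec_apply] at h3
        exact h3
      subst h2
      have h3 : tr b * dil a.1 = tr b' * dil a'.1 := mul_left_cancel h1
      have h4 : b = b' := by
        have h5 := congrArg (fun g : Equiv.Perm (OnePoint (ZMod p)) =>
          g ((0 : ZMod p) : OnePoint (ZMod p))) h3
        simp only [Equiv.Perm.mul_apply, dil_coe, tr_coe, mul_zero, zero_add] at h5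
        exact OnePoint.coe_injective h5
      subst h4
      have h5 : a = a' := by
        have h6 := congrArg (fun g : Equiv.Perm (OnePoint (ZMod p)) =>
          g ((1 : ZMod p) : OnePoint (ZMod p))) h3
        simp only [Equiv.Perm.mul_apply, dil_coe, tr_coe, mul_one] at h6
        have h7 := OnePoint.coe_injective h6
        apply Subtype.ext
        apply Units.ext
        exact add_right_cancel h7
      rw [h5]
    · rintro ⟨g, hg⟩
      obtain ⟨b, a, ha, hab⟩ := exists_decomp S hg
      exact ⟨(g ∞, b, ⟨a, ha⟩), Subtype.ext hab.symm⟩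
  rw [← Nat.card_eq_of_bijective φ hφ, Nat.card_prod, Nat.card_prod]
  have h1 : Nat.card (OnePoint (ZMod p)) = p + 1 := by
    have h2 : Nat.card (Option (ZMod p)) = p + 1 := by
      rw [Finite.card_option, Nat.card_zmod]
    exact h2
  rw [h1, Nat.card_zmod, mul_assoc]

/-- `w` acts as `x ↦ s / x`; the multipliers contain `- s / b²`. -/
theorem neg_div_mem (S : Setting G w) {s : ZMod p} (hs : s ≠ 0)
    (hw : ∀ x : ZMod p, x ≠ 0 →
      w (x : OnePoint (ZMod p)) = ((s * x⁻¹ : ZMod p) : OnePoint (ZMod p)))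
    (b : (ZMod p)ˣ) : -(Units.mk0 s hs) * (b⁻¹) ^ 2 ∈ mult G := by
  rw [mem_mult]
  have hb : (b : ZMod p) ≠ 0 := b.ne_zero
  -- the element `h = t_{-s/b} w t_b w t_{-s/b} w`
  have key : dil (-(Units.mk0 s hs) * (b⁻¹) ^ 2) =
      tr (-(s * (b : ZMod p)⁻¹)) * w * tr b * w * tr (-(s * (b : ZMod p)⁻¹)) * w := by
    apply Equiv.ext
    intro x
    simp only [Equiv.Perm.mul_apply]
    induction x using OnePoint.rec with
    | infty =>
      rw [dil_infty, S.w_infty, tr_coe, zero_add,
        hw _ (neg_ne_zero.2 (mul_ne_zero hs (inv_ne_zero hb))), tr_coe]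
      have h1 : s * (-(s * (b : ZMod p)⁻¹))⁻¹ + b = 0 := by
        field_simp
        ring
      rw [h1, S.w_zero, tr_infty]
    | coe x =>
      rw [dil_coe]
      by_cases hx : x = 0
      · subst hx
        rw [S.w_zero, tr_infty, S.w_infty, tr_coe, zero_add, hw _ hb, tr_coe, mul_zero,
          add_neg_cancel]
      · rw [hw x hx, tr_coe]
        by_cases hxb : x = b
        · subst hxb
          rw [add_neg_cancel, S.w_zero, tr_infty, S.w_infty, tr_coe, zero_add]
          congr 1
          push_cast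
          rw [Units.val_mk0]
          field_simp
        · have h1 : s * x⁻¹ + -(s * (b : ZMod p)⁻¹) ≠ 0 := by
            intro h
            apply hxb
            have h2 : s * ((b : ZMod p) - x) = 0 := by
              have h3 : (s * x⁻¹ + -(s * (b : ZMod p)⁻¹)) * (x * b) = 0 := by rw [h, zero_mul]
              field_simp at h3
              linear_combination h3
            rcases mul_eq_zero.1 h2 with h3 | h3
            · exact absurd h3 hs
            · linear_combination -h3
          have hbx : (b : ZMod p) - x ≠ 0 := by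
            intro h; apply hxb; linear_combination -h
          rw [hw _ h1, tr_coe]
          have h2 : s * (s * x⁻¹ + -(s * (b : ZMod p)⁻¹))⁻¹ + b = b ^ 2 * (b - x)⁻¹ := by
            have h3 : s * x⁻¹ + -(s * (b : ZMod p)⁻¹) = s * (b - x) * (x * b)⁻¹ := by
              field_simp
              ring
            rw [h3]
            field_simp
            ring
          have h4 : (b : ZMod p) ^ 2 * ((b : ZMod p) - x)⁻¹ ≠ 0 :=
            mul_ne_zero (pow_ne_zero _ hb) (inv_ne_zero hbx)
          rw [h2, hw _ h4, tr_coe]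
          congr 1
          push_cast
          rw [Units.val_mk0]
          field_simp
          ring
  rw [key]
  exact G.mul_mem (G.mul_mem (G.mul_mem (G.mul_mem (G.mul_mem (S.tr_mem _) S.w_mem)
    (S.tr_mem _)) S.w_mem) (S.tr_mem _)) S.w_mem

theorem sq_mem (S : Setting G w) {s : ZMod p} (hs : s ≠ 0)
    (hw : ∀ x : ZMod p, x ≠ 0 →
      w (x : OnePoint (ZMod p)) = ((s * x⁻¹ : ZMod p) : OnePoint (ZMod p)))
    (b : (ZMod p)ˣ) : b ^ 2 ∈ mult G := by
  have h1 := neg_div_mem S hs hw b⁻¹
  have h2 := neg_div_mem S hs hw 1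
  rw [inv_inv] at h1
  rw [inv_one, one_pow, mul_one] at h2
  have h3 := (mult G).mul_mem ((mult G).inv_mem h2) h1
  rwa [inv_mul_cancel_left] at h3

open Cfsg.Agent.Lib in
/-- Final identification. -/
theorem identify (S : Setting G w) {s : ZMod p} (hs : s ≠ 0)
    (hw : ∀ x : ZMod p, x ≠ 0 →
      w (x : OnePoint (ZMod p)) = ((s * x⁻¹ : ZMod p) : OnePoint (ZMod p)))
    {d : ℕ} (hG : Nat.card G = (p + 1) * p * d) :
    (d = p - 1 ∧ Nonempty (G ≃* Matrix.ProjGenLinGroup (Fin 2) (ZMod p))) ∨
      (2 * d = p - 1 ∧ Nonempty (G ≃* Matrix.ProjectiveSpecialLinearGroup (Fin 2) (ZMod p))) := by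
  classical
  have hpp := hp.out.pos
  have hd : Nat.card (mult G) = d := by
    have h1 := card_eq S
    rw [hG] at h1
    have h2 : 0 < (p + 1) * p := by positivity
    exact (Nat.eq_of_mul_eq_mul_left h2 h1).symm
  have hindex : Nat.card (mult G) * (mult G).index = p - 1 := by
    rw [Subgroup.card_mul_index, Nat.card_eq_fintype_card, ZMod.card_units]
  have hle2 : (mult G).index ∣ 2 := by
    have h1 : Monoid.exponent ((ZMod p)ˣ ⧸ mult G) ∣ 2 := by
      apply Monoid.exponent_dvd_of_forall_pow_eq_one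
      intro x
      obtain ⟨x, rfl⟩ := QuotientGroup.mk_surjective x
      rw [← QuotientGroup.mk_pow, QuotientGroup.eq_one_iff]
      exact sq_mem S hs hw x
    have h2 : IsCyclic ((ZMod p)ˣ ⧸ mult G) :=
      isCyclic_of_surjective (QuotientGroup.mk' (mult G)) (QuotientGroup.mk'_surjective _)
    rw [IsCyclic.exponent_eq_card] at h1
    exact h1
  -- the actions
  let e : OnePoint (ZMod p) ≃ OnePoint (ZMod p) := Equiv.refl _
  have ht : ∀ b : ZMod p, ∃ g : G, Mobius.ActsTrans e g b := fun b =>
    ⟨⟨tr b, S.tr_mem b⟩, rfl, fun y => rfl⟩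
  have hwI : Mobius.ActsInv e (⟨w, S.w_mem⟩ : G) s :=
    ⟨S.w_infty, S.w_zero, fun y hy => hw y hy⟩
  have hdil : ∀ a : (ZMod p)ˣ, ∀ ha : a ∈ mult G,
      Mobius.ActsDil e (⟨dil a, ha⟩ : G) (a : ZMod p) := fun a ha => ⟨rfl, fun y => rfl⟩
  -- generation
  let T : Set G := {g | (∃ b : ZMod p, (g : Equiv.Perm (OnePoint (ZMod p))) = tr b) ∨
    (∃ a : (ZMod p)ˣ, a ∈ mult G ∧ (g : Equiv.Perm (OnePoint (ZMod p))) = dil a) ∨
    (g : Equiv.Perm (OnePoint (ZMod p))) = w}
  have hT : Subgroup.closure T = ⊤ := by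
    rw [Subgroup.eq_top_iff']
    rintro ⟨g, hg⟩
    obtain ⟨b, a, ha, hab⟩ := exists_decomp S hg
    have h1 : (⟨tr b, S.tr_mem b⟩ : G) ∈ Subgroup.closure T :=
      Subgroup.subset_closure (Or.inl ⟨b, rfl⟩)
    have h2 : (⟨dil a, ha⟩ : G) ∈ Subgroup.closure T :=
      Subgroup.subset_closure (Or.inr (Or.inl ⟨a, ha, rfl⟩))
    have h3 : (⟨w, S.w_mem⟩ : G) ∈ Subgroup.closure T :=
      Subgroup.subset_closure (Or.inr (Or.inr rfl))
    have h4 : ∀ y : OnePoint (ZMod p), (⟨sec w y, S.sec_mem y⟩ : G) ∈ Subgroup.closure T := by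
      intro y
      induction y using OnePoint.rec with
      | infty => exact (Subgroup.closure T).one_mem
      | coe y =>
        have h5 : (⟨tr y, S.tr_mem y⟩ : G) ∈ Subgroup.closure T :=
          Subgroup.subset_closure (Or.inl ⟨y, rfl⟩)
        exact (Subgroup.closure T).mul_mem h5 h3
    have h5 : (⟨g, hg⟩ : G) = (⟨sec w (g ∞), S.sec_mem _⟩ : G) *
        ((⟨tr b, S.tr_mem b⟩ : G) * (⟨dil a, ha⟩ : G)) := Subtype.ext hab
    rw [h5]
    exact (Subgroup.closure T).mul_mem (h4 _) ((Subgroup.closure T).mul_mem h1 h2)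
  rcases (Nat.dvd_prime Nat.prime_two).1 hle2 with hi | hi
  · -- index 1
    left
    rw [hi, mul_one, hd] at hindex
    have htop : mult G = ⊤ := Subgroup.index_eq_one.1 hi
    refine ⟨hindex, ?_⟩
    apply Mobius.nonempty_mulEquiv_pgl_of_generators e T hT
    · rintro ⟨g, hg⟩ (⟨b, hb⟩ | ⟨a, ha, hb⟩ | hb)
      · have h1 : Mobius.ActsTrans e (⟨g, hg⟩ : G) b := by
          change g = tr b at hb
          subst hb
          exact ⟨rfl, fun y => rfl⟩
        rw [h1.permHom_eq_gl]
        exact ⟨_, rfl⟩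
      · have h1 : Mobius.ActsDil e (⟨g, hg⟩ : G) (a : ZMod p) := by
          change g = dil a at hb
          subst hb
          exact ⟨rfl, fun y => rfl⟩
        rw [h1.permHom_eq_gl a.ne_zero]
        exact ⟨_, rfl⟩
      · have h1 : Mobius.ActsInv e (⟨g, hg⟩ : G) s := by
          change g = w at hb
          subst hb
          exact hwI
        rw [h1.permHom_eq_gl hs]
        exact ⟨_, rfl⟩
    · exact ht
    · intro a ha
      have h1 : Units.mk0 a ha ∈ mult G := by rw [htop]; trivial
      exact ⟨⟨dil (Units.mk0 a ha), h1⟩, hdil _ h1⟩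
    · exact ⟨_, s, hs, hwI⟩
  · -- index 2
    right
    have h2d : 2 * d = p - 1 := by rw [← hindex, hi, hd, mul_comm]
    refine ⟨h2d, ?_⟩
    -- multipliers are squares
    have hsq : ∀ a : (ZMod p)ˣ, a ∈ mult G → ∃ r : (ZMod p)ˣ, a = r ^ 2 := by
      intro a ha
      by_contra hcon
      push Not at hcon
      -- the squares form a subgroup of index at most 2, contained in `mult G`
      have h1 : mult G = ⊤ := by
        let sqH : Subgroup (ZMod p)ˣ := (powMonoidHom 2 : (ZMod p)ˣ →* (ZMod p)ˣ).range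
        have hidx : sqH.index ∣ 2 := by
          have h3 : Monoid.exponent ((ZMod p)ˣ ⧸ sqH) ∣ 2 := by
            apply Monoid.exponent_dvd_of_forall_pow_eq_one
            intro x
            obtain ⟨x, rfl⟩ := QuotientGroup.mk_surjective x
            rw [← QuotientGroup.mk_pow, QuotientGroup.eq_one_iff]
            exact ⟨x, rfl⟩
          have h4 : IsCyclic ((ZMod p)ˣ ⧸ sqH) :=
            isCyclic_of_surjective (QuotientGroup.mk' sqH) (QuotientGroup.mk'_surjective _)
          rw [IsCyclic.exponent_eq_card] at h3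
          exact h3
        have hle : sqH ≤ mult G := by
          rintro _ ⟨x, rfl⟩
          exact sq_mem S hs hw x
        have hlt : sqH < mult G := by
          refine lt_of_le_of_ne hle ?_
          intro heq
          rw [← heq] at ha
          obtain ⟨r, hr⟩ := ha
          exact hcon r hr.symm
        have h5 : sqH.index = 2 := by
          rcases (Nat.dvd_prime Nat.prime_two).1 hidx with h6 | h6
          · exfalso
            rw [Subgroup.index_eq_one] at h6
            rw [h6] at hlt
            exact not_top_lt hlt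
          · exact h6
        have h6 := Subgroup.relIndex_mul_index hle
        rw [h5, hi] at h6
        have h7 : sqH.relIndex (mult G) = 1 := by omega
        rw [Subgroup.relIndex_eq_one] at h7
        exact absurd hlt (not_lt_of_ge h7)
      rw [h1, Subgroup.index_top] at hi
      omega
    have hns : -(Units.mk0 s hs) ∈ mult G := by
      have h1 := neg_div_mem S hs hw 1
      rwa [inv_one, one_pow, mul_one] at h1
    obtain ⟨r, hr⟩ := hsq _ hns
    have hr0 : (r : ZMod p) ≠ 0 := r.ne_zero
    have hsr : s = -(r : ZMod p) ^ 2 := by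
      have h1 := congrArg (fun u : (ZMod p)ˣ => (u : ZMod p)) hr
      simp only [Units.val_neg, Units.val_mk0, Units.val_pow_eq_pow_val] at h1
      rw [← h1, neg_neg]
    have hwI' : Mobius.ActsInv e (⟨w, S.w_mem⟩ : G) (-(r : ZMod p) ^ 2) := by
      rw [← hsr]; exact hwI
    apply Mobius.nonempty_mulEquiv_psl_of_generators e T hT
    · rintro ⟨g, hg⟩ (⟨b, hb⟩ | ⟨a, ha, hb⟩ | hb)
      · have h1 : Mobius.ActsTrans e (⟨g, hg⟩ : G) b := by
          change g = tr b at hb
          subst hb
          exact ⟨rfl, fun y => rfl⟩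
        rw [h1.permHom_eq]
        exact ⟨_, rfl⟩
      · obtain ⟨t, ht'⟩ := hsq a ha
        have h1 : Mobius.ActsDil e (⟨g, hg⟩ : G) ((t : ZMod p) ^ 2) := by
          change g = dil a at hb
          subst hb
          rw [← Units.val_pow_eq_pow_val, ← ht']
          exact ⟨rfl, fun y => rfl⟩
        rw [h1.permHom_eq t.ne_zero]
        exact ⟨_, rfl⟩
      · have h1 : Mobius.ActsInv e (⟨g, hg⟩ : G) (-(r : ZMod p) ^ 2) := by
          change g = w at hb
          subst hb
          exact hwI'
        rw [h1.permHom_eq hr0]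
        exact ⟨_, rfl⟩
    · exact ht
    · exact ⟨_, r, hr0, hwI'⟩

end Cfsg.Agent.PermutationGroups.PrimePlusOne.Identify
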