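import Mathlib
import Cfsg.Prelude.Def_Perm

set_option autoImplicit false

namespace Cfsg.Agent.PermutationGroups.PrimePlusOne.Semiaffine

/-- Coordinates: an additive group with an automorphism `T` whose powers are transitive on the
nonzero vectors is a field with `T` acting as multiplication. -/
theorem exists_coord {V : Type*} [AddCommGroup V] [Finite V] (q : ℕ) (hq : q ≠ 0)
    (hV : Nat.card V = 2 ^ q) (T : AddMonoid.End V) (n0 : V) (hn0 : n0 ≠ 0)
    (htr : ∀ v : V, v ≠ 0 → ∃ i : ℕ, (T ^ i) n0 = v) (m : ℕ) (hm : 0 < m) (hT : T ^ m = 1) :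
    ∃ (e : V ≃+ GaloisField 2 q) (t : GaloisField 2 q), e n0 = 1 ∧ (∀ v, e (T v) = t * e v) ∧
      t ≠ 0 ∧ ∀ x : GaloisField 2 q, x ≠ 0 → ∃ i : ℕ, t ^ i = x := by
  classical
  let F : Subring (AddMonoid.End V) := Subring.closure {T}
  have hTF : T ∈ F := Subring.subset_closure rfl
  have hcomm : ∀ r ∈ F, Commute r T := by
    intro r hr
    have h1 : F ≤ Subring.centralizer {T} := by
      rw [Subring.closure_le]
      rintro x rfl
      rw [SetLike.mem_coe, Subring.mem_centralizer_iff]
      rintro g rfl
      rfl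
    have h2 := h1 hr
    rw [Subring.mem_centralizer_iff] at h2
    exact (h2 T rfl).symm
  have hkill : ∀ r ∈ F, r n0 = 0 → r = 0 := by
    intro r hr h0
    ext v
    by_cases hv : v = 0
    · rw [hv, map_zero, map_zero]
    · obtain ⟨i, rfl⟩ := htr v hv
      have h1 : r * T ^ i = T ^ i * r := (hcomm r hr).pow_right i
      have h2 := congrArg (fun f : AddMonoid.End V => f n0) h1
      have h3 : r ((T ^ i) n0) = (T ^ i) (r n0) := h2
      rw [h3, h0, map_zero]
      rfl
  have hform : ∀ r ∈ F, r ≠ 0 → ∃ i : ℕ, r = T ^ i := by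
    intro r hr h0
    have h1 : r n0 ≠ 0 := fun h => h0 (hkill r hr h)
    obtain ⟨i, hi⟩ := htr _ h1
    refine ⟨i, ?_⟩
    have h2 : (r - T ^ i) n0 = 0 := by
      show r n0 - (T ^ i) n0 = 0
      rw [hi, sub_self]
    exact sub_eq_zero.mp (hkill _ (sub_mem hr (pow_mem hTF i)) h2)
  have hone : (1 : AddMonoid.End V) ≠ 0 := by
    intro h
    apply hn0
    have := congrArg (fun f : AddMonoid.End V => f n0) h
    exact this
  have hF : IsField F := by
    refine ⟨⟨0, 1, ?_⟩, ?_, ?_⟩
    · intro h
      exact hone (congrArg Subtype.val h).symm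
    · intro a b
      apply Subtype.ext
      show (a : AddMonoid.End V) * b = b * a
      by_cases ha : (a : AddMonoid.End V) = 0
      · rw [ha, zero_mul, mul_zero]
      · obtain ⟨i, hi⟩ := hform a a.2 ha
        rw [hi]
        exact ((hcomm b b.2).pow_right i).symm
    · intro a ha
      have ha' : (a : AddMonoid.End V) ≠ 0 := fun h => ha (Subtype.ext h)
      obtain ⟨i, hi⟩ := hform a a.2 ha'
      refine ⟨⟨T ^ ((m - 1) * i), pow_mem hTF _⟩, ?_⟩
      apply Subtype.ext
      show (a : AddMonoid.End V) * T ^ ((m - 1) * i) = 1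
      rw [hi, ← pow_add]
      have : i + (m - 1) * i = m * i := by
        obtain ⟨k, rfl⟩ : ∃ k, m = k + 1 := ⟨m - 1, by omega⟩
        simp only [Nat.add_sub_cancel]
        ring
      rw [this, pow_mul, hT, one_pow]
  letI instF : Field F := hF.toField
  have evinj : Function.Injective (fun r : F => (r : AddMonoid.End V) n0) := by
    intro r s h
    apply Subtype.ext
    have h2 : ((r : AddMonoid.End V) - s) n0 = 0 := by
      show (r : AddMonoid.End V) n0 - (s : AddMonoid.End V) n0 = 0
      exact sub_eq_zero.mpr h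
    exact sub_eq_zero.mp (hkill _ (sub_mem r.2 s.2) h2)
  have evsurj : Function.Surjective (fun r : F => (r : AddMonoid.End V) n0) := by
    intro v
    by_cases hv : v = 0
    · exact ⟨0, hv.symm⟩
    · obtain ⟨i, hi⟩ := htr v hv
      exact ⟨⟨T ^ i, pow_mem hTF i⟩, hi⟩
  let ev : F ≃+ V :=
    AddEquiv.ofBijective
      ({ toFun := fun r => (r : AddMonoid.End V) n0
         map_zero' := rfl
         map_add' := fun _ _ => rfl } : F →+ V) ⟨evinj, evsurj⟩
  have hev : ∀ r : F, ev r = (r : AddMonoid.End V) n0 := fun _ => rfl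
  haveI : Finite F := Finite.of_injective _ evinj
  letI : Fintype F := Fintype.ofFinite F
  letI : Fintype (GaloisField 2 q) := Fintype.ofFinite _
  have hcard : Fintype.card F = Fintype.card (GaloisField 2 q) := by
    rw [← Nat.card_eq_fintype_card, ← Nat.card_eq_fintype_card, GaloisField.card 2 q hq,
      Nat.card_congr ev.toEquiv, hV]
  let ψ : F ≃+* GaloisField 2 q := FiniteField.ringEquivOfCardEq hcard
  let TT : F := ⟨T, hTF⟩
  refine ⟨ev.symm.trans ψ.toAddEquiv, ψ TT, ?_, ?_, ?_, ?_⟩
  · have h1 : ev.symm n0 = 1 := by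
      rw [AddEquiv.symm_apply_eq]
      rfl
    show ψ (ev.symm n0) = 1
    rw [h1, map_one]
  · intro v
    show ψ (ev.symm (T v)) = ψ TT * ψ (ev.symm v)
    rw [← map_mul]
    congr 1
    rw [AddEquiv.symm_apply_eq]
    show T v = T ((ev.symm v : AddMonoid.End V) n0)
    congr 1
    exact (ev.apply_symm_apply v).symm
  · intro h
    have h1 : TT = 0 := by
      rw [← map_zero ψ] at h
      exact ψ.injective h
    have h2 : T = 0 := congrArg Subtype.val h1
    apply hone
    rw [← hT, h2, zero_pow hm.ne']
  · intro x hx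
    have h0 : (ψ.symm x : AddMonoid.End V) ≠ 0 := by
      intro h
      apply hx
      have h1 : ψ.symm x = 0 := Subtype.ext h
      rw [← ψ.apply_symm_apply x, h1, map_zero]
    obtain ⟨i, hi⟩ := hform _ (ψ.symm x).2 h0
    refine ⟨i, ?_⟩
    rw [← map_pow]
    have : TT ^ i = ψ.symm x := by
      apply Subtype.ext
      rw [hi]
      rfl
    rw [this, ψ.apply_symm_apply]

/-- An additive automorphism `c` of a field `K` with `c (t x) = t ^ k c x`, where the powers of `t`
cover all nonzero elements, is `x ↦ u φ x` for a field automorphism `φ`. -/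
theorem exists_semilinear {K : Type*} [Field K] [Finite K] (t : K) 
    (hgen : ∀ x : K, x ≠ 0 → ∃ i : ℕ, t ^ i = x) (c : K ≃+ K) (k : ℕ)
    (hc : ∀ x, c (t * x) = t ^ k * c x) :
    ∃ (φ : K ≃+* K), ∀ x, c x = c 1 * φ x := by
  have hu : c 1 ≠ 0 := by
    intro h
    rw [← map_zero c] at h
    exact one_ne_zero (c.injective h)
  have hpow : ∀ i x, c (t ^ i * x) = (t ^ k) ^ i * c x := by
    intro i
    induction i with
    | zero => intro x; simp
    | succ i ih =>
      intro x
      rw [pow_succ, mul_assoc, ih, hc, pow_succ, mul_assoc]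
  have hmul : ∀ x y, (c 1)⁻¹ * c (x * y) = ((c 1)⁻¹ * c x) * ((c 1)⁻¹ * c y) := by
    intro x y
    by_cases hx : x = 0
    · simp [hx]
    · obtain ⟨i, rfl⟩ := hgen x hx
      have h1 : c (t ^ i) = (t ^ k) ^ i * c 1 := by
        have := hpow i 1
        rwa [mul_one] at this
      rw [hpow, h1]
      field_simp
  let φ : K →+* K :=
    { toFun := fun x => (c 1)⁻¹ * c x
      map_one' := inv_mul_cancel₀ hu
      map_mul' := hmul
      map_zero' := by simp
      map_add' := fun x y => by rw [map_add, mul_add] }
  have hb : Function.Bijective φ := Finite.injective_iff_bijective.mp φ.injective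
  refine ⟨RingEquiv.ofBijective φ hb, fun x => ?_⟩
  show c x = c 1 * ((c 1)⁻¹ * c x)
  rw [mul_inv_cancel_left₀ hu]

/-- Recognition of semi-affine groups of degree `p + 1 = 2 ^ q`: a regular normal elementary abelian
2-subgroup and an element of order `p` generating a normal subgroup of the point stabiliser. -/
theorem semiaffine_of_regular_normal {α : Type*} [Fintype α] [DecidableEq α] {p d : ℕ} (hp : p.Prime) (hα : Fintype.card α = p + 1) (G : Subgroup (Equiv.Perm α)) (hG : Nat.card G = (p + 1) * p * d) (N : Subgroup G) (hN : N.Normal) (htr : MulAction.IsPretransitive N α) (hreg : ∀ x : α, MulAction.stabilizer N x = ⊥) (hN2 : ∀ n ∈ N, n ^ 2 = 1) (a : α) (σ : G) (hσa : σ • a = a) (hσ : orderOf σ = p) (hnorm : ∀ g : G, g • a = a → ∃ k : ℕ, g * σ * g⁻¹ = σ ^ k) : ∃ q : ℕ, q.Prime ∧ p + 1 = 2 ^ q ∧ (d = 1 ∨ d = q) ∧ ∃ e : α ≃ GaloisField 2 q, ∀ g : G, (e.symm.trans (((g : Equiv.Perm α)).trans e)) ∈ Cfsg.semiaffineGroup (GaloisField 2 q) := by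
  classical
  have hfin : Finite G := inferInstance
  -- the regular bijection
  have νinj : Function.Injective (fun n : N => n • a) := by
    intro n m h
    have h1 : m⁻¹ * n ∈ MulAction.stabilizer N a := by
      rw [MulAction.mem_stabilizer_iff, mul_smul]
      have h2 : n • a = m • a := h
      rw [h2, inv_smul_smul]
    rw [hreg, Subgroup.mem_bot] at h1
    exact (inv_mul_eq_one.mp h1).symm
  have νsurj : Function.Surjective (fun n : N => n • a) := fun x => MulAction.exists_smul_eq N a x
  let ν : N ≃ α := Equiv.ofBijective (fun n : N => n • a) ⟨νinj, νsurj⟩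
  have hν : ∀ n : N, ν n = n • a := fun _ => rfl
  have hcardN : Nat.card N = p + 1 := by
    rw [Nat.card_congr ν, Nat.card_eq_fintype_card, hα]
  -- `N` is a 2-group
  have hpg : IsPGroup 2 N := by
    intro n
    refine ⟨1, ?_⟩
    apply Subtype.ext
    rw [pow_one]
    exact hN2 n n.2
  obtain ⟨q, hq⟩ := (IsPGroup.iff_card (p := 2)).mp hpg
  have hpq : p + 1 = 2 ^ q := hcardN.symm.trans hq
  have hq1 : q ≠ 1 := by
    rintro rfl
    have := hp.one_lt
    omega
  have hq0 : q ≠ 0 := by
    rintro rfl
    have := hp.one_lt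
    omega
  have hqp : q.Prime := by
    have h1 : (2 ^ q - 1).Prime := by
      have : 2 ^ q - 1 = p := by omega
      rwa [this]
    exact (Nat.prime_of_pow_sub_one_prime hq1 h1).2
  -- commutativity of `N`
  have hNcomm : ∀ x y : N, x * y = y * x := by
    intro x y
    have hsq : ∀ z : N, z * z = 1 := by
      intro z
      apply Subtype.ext
      have := hN2 z z.2
      rw [pow_two] at this
      exact this
    have hinv : ∀ z : N, z⁻¹ = z := fun z => inv_eq_of_mul_eq_one_left (hsq z)
    calc x * y = (x * y)⁻¹ := (hinv _).symm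
      _ = y⁻¹ * x⁻¹ := mul_inv_rev _ _
      _ = y * x := by rw [hinv, hinv]
  letI instC : CommGroup N := { (inferInstance : Group N) with mul_comm := hNcomm }
  -- the conjugation action
  let C : G →* AddMonoid.End (Additive N) :=
    { toFun := fun g =>
        { toFun := fun v => Additive.ofMul (MulAut.conjNormal g (Additive.toMul v))
          map_zero' := by
            show Additive.ofMul (MulAut.conjNormal g (1 : N)) = 0
            rw [map_one]; rfl
          map_add' := fun v w => by
            show Additive.ofMul (MulAut.conjNormal g (Additive.toMul v * Additive.toMul w)) = _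
            rw [map_mul]; rfl }
      map_one' := by
        refine AddMonoidHom.ext fun v => ?_
        show Additive.ofMul (MulAut.conjNormal (1 : G) (Additive.toMul v) : N) = v
        rw [map_one]; rfl
      map_mul' := fun g h => by
        refine AddMonoidHom.ext fun v => ?_
        show Additive.ofMul (MulAut.conjNormal (g * h) (Additive.toMul v) : N) =
          Additive.ofMul (MulAut.conjNormal g (MulAut.conjNormal h (Additive.toMul v)))
        rw [map_mul]; rfl }
  have hC : ∀ (g : G) (n : N), C g (Additive.ofMul n) = Additive.ofMul (MulAut.conjNormal g n) :=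
    fun _ _ => rfl
  have hCν : ∀ (h : G), h • a = a → ∀ n : N,
      h • (ν n) = ν (Additive.toMul (C h (Additive.ofMul n))) := by
    intro h hh n
    rw [hC]
    show h • (n • a) = (MulAut.conjNormal h n : N) • a
    show h • ((n : G) • a) = ((MulAut.conjNormal h n : N) : G) • a
    rw [MulAut.conjNormal_apply, mul_smul, mul_smul]
    congr 2
    rw [eq_inv_smul_iff, hh]
  -- an invertible version
  let Ce : G → (Additive N ≃+ Additive N) := fun g =>
    { toFun := C g
      invFun := C g⁻¹
      left_inv := fun v => by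
        have h1 : C g⁻¹ * C g = 1 := by rw [← map_mul, inv_mul_cancel, map_one]
        exact congrArg (fun f : AddMonoid.End (Additive N) => f v) h1
      right_inv := fun v => by
        have h1 : C g * C g⁻¹ = 1 := by rw [← map_mul, mul_inv_cancel, map_one]
        exact congrArg (fun f : AddMonoid.End (Additive N) => f v) h1
      map_add' := fun v w => map_add (C g) v w }
  have hCe : ∀ g v, Ce g v = C g v := fun _ _ => rfl
  have hTp : (C σ) ^ p = 1 := by
    rw [← map_pow, ← hσ, pow_orderOf_eq_one, map_one]
  -- a nonzero vector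
  obtain ⟨n0, hn0⟩ : ∃ n0 : N, n0 ≠ 1 := by
    have h1 : 1 < Nat.card N := by
      rw [hcardN]
      have := hp.one_lt
      omega
    have h2 : Nontrivial N := Finite.one_lt_card_iff_nontrivial.mp h1
    exact exists_ne 1
  have hn0' : Additive.ofMul n0 ≠ (0 : Additive N) := fun h => hn0 h
  -- transitivity on nonzero vectors
  have hσp : orderOf (σ : Equiv.Perm α) = p := by
    rw [← hσ]
    exact orderOf_injective G.subtype G.subtype_injective σ
  have hcyc : (σ : Equiv.Perm α).IsCycle := by
    apply Equiv.Perm.isCycle_of_prime_order'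
    · rwa [hσp]
    · rw [hσp, hα]
      have := hp.one_lt
      omega
  have hsupp : ∀ x : α, x ≠ a → (σ : Equiv.Perm α) x ≠ x := by
    have h1 : (σ : Equiv.Perm α).support.card = p := by
      rw [← hcyc.orderOf, hσp]
    have h2 : (σ : Equiv.Perm α).support ⊆ Finset.univ.erase a := by
      intro x hx
      rw [Finset.mem_erase]
      refine ⟨?_, Finset.mem_univ _⟩
      rintro rfl
      rw [Equiv.Perm.mem_support] at hx
      exact hx hσa
    have h3 : (σ : Equiv.Perm α).support = Finset.univ.erase a := by
      apply Finset.eq_of_subset_of_card_le h2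
      rw [h1, Finset.card_erase_of_mem (Finset.mem_univ _), Finset.card_univ, hα]
      omega
    intro x hx
    have h4 : x ∈ (σ : Equiv.Perm α).support := by
      rw [h3, Finset.mem_erase]
      exact ⟨hx, Finset.mem_univ _⟩
    exact Equiv.Perm.mem_support.mp h4
  have hνne : ∀ n : N, n ≠ 1 → ν n ≠ a := by
    intro n hn h
    apply hn
    apply ν.injective
    rw [h, hν, one_smul]
  have hσpow : ∀ i : ℕ, (σ ^ i) • a = a := by
    intro i
    induction i with
    | zero => simp
    | succ i ih => rw [pow_succ, mul_smul, hσa, ih]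
  have htrT : ∀ v : Additive N, v ≠ 0 → ∃ i : ℕ, ((C σ) ^ i) (Additive.ofMul n0) = v := by
    intro v hv
    have hv' : Additive.toMul v ≠ 1 := fun h => hv h
    obtain ⟨i, hi⟩ := hcyc.exists_pow_eq (hsupp _ (hνne _ hn0)) (hsupp _ (hνne _ hv'))
    refine ⟨i, ?_⟩
    rw [← map_pow]
    have h1 := hCν (σ ^ i) (hσpow i) n0
    have h2 : (σ ^ i) • ν n0 = ν (Additive.toMul v) := by
      rw [← hi]
      rfl
    rw [h2] at h1
    exact (ν.injective h1).symm
  obtain ⟨e, t, he1, heT, ht0, hgen⟩ := exists_coord (V := Additive N) q hq0 hq (C σ) (Additive.ofMul n0) hn0' htrT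
    p hp.pos hTp
  -- the additive maps on the field
  let c : G → (GaloisField 2 q ≃+ GaloisField 2 q) := fun h => (e.symm.trans (Ce h)).trans e
  have hc : ∀ h v, c h (e v) = e (C h v) := by
    intro h v
    show e (Ce h (e.symm (e v))) = _
    rw [e.symm_apply_apply, hCe]
  have hcmul : ∀ g h x, c (g * h) x = c g (c h x) := by
    intro g h x
    obtain ⟨v, rfl⟩ := e.surjective x
    rw [hc, hc, hc, map_mul]
    rfl
  have hTi : ∀ (i : ℕ) v, e ((C σ ^ i) v) = t ^ i * e v := by
    intro i
    induction i with
    | zero => intro v; rw [pow_zero, pow_zero, one_mul]; rfl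
    | succ i ih =>
      intro v
      have h1 : (C σ ^ (i + 1)) v = (C σ ^ i) (C σ v) := by
        rw [pow_succ]; rfl
      rw [h1, ih, heT, pow_succ, mul_assoc]
  have hsl : ∀ h : G, h • a = a → ∃ φ : GaloisField 2 q ≃+* GaloisField 2 q,
      ∀ x, c h x = c h 1 * φ x := by
    intro h hh
    obtain ⟨k, hk⟩ := hnorm h hh
    haveI : Finite (GaloisField 2 q) := inferInstance
    refine exists_semilinear t hgen (c h) k ?_
    intro x
    obtain ⟨v, rfl⟩ := e.surjective x
    rw [← heT, hc, hc]
    have h1 : C h (C σ v) = (C σ ^ k) (C h v) := by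
      have h2 : h * σ = σ ^ k * h := by
        rw [← hk]; group
      have h3 := congrArg (fun f : AddMonoid.End (Additive N) => f v)
        ((map_mul C h σ).symm.trans ((congrArg C h2).trans (map_mul C (σ ^ k) h)))
      rw [map_pow] at h3
      exact h3
    rw [h1, hTi]
  choose! φ hφ using hsl
  have hc1 : ∀ h, c h 1 ≠ 0 := by
    intro h h1
    rw [← map_zero (c h)] at h1
    exact one_ne_zero ((c h).injective h1)
  refine ⟨q, hqp, hpq, ?_, ν.symm.trans (Additive.ofMul.trans e.toEquiv), ?_⟩
  · -- the order
    let S : Subgroup G := MulAction.stabilizer G a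
    have hS : ∀ h : S, (h : G) • a = a := fun h => h.2
    have hcardS : Nat.card S = p * d := by
      have h1 : MulAction.IsPretransitive G α := by
        constructor
        intro x y
        obtain ⟨n, hn⟩ := MulAction.exists_smul_eq N x y
        exact ⟨n, hn⟩
      have h2 := MulAction.index_stabilizer_of_transitive G a
      have h3 := Subgroup.card_mul_index (MulAction.stabilizer G a)
      rw [h2, hG, Nat.card_eq_fintype_card (α := α), hα] at h3
      have h4 : (p + 1) * Nat.card S = (p + 1) * (p * d) := by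
        rw [mul_comm]
        rw [h3]
        ring
      exact Nat.eq_of_mul_eq_mul_left (Nat.succ_pos p) h4
    have hφmul : ∀ g h : S, ∀ x, φ ((g : G) * h) x = φ g (φ h x) := by
      intro g h x
      have e1 := hφ ((g : G) * h) (by rw [mul_smul, hS, hS]) x
      have e2 : c ((g : G) * h) x = c ((g : G) * h) 1 * φ g (φ h x) := by
        rw [hcmul, hφ h (hS h) x, hφ g (hS g), map_mul, hcmul, ← mul_assoc, ← hφ g (hS g)]
      rw [e1] at e2
      exact mul_left_cancel₀ (hc1 _) e2
    have hcomm2 : ∀ (ψ : GaloisField 2 q ≃+* GaloisField 2 q) (r : ZMod 2),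
        ψ (algebraMap (ZMod 2) (GaloisField 2 q) r) = algebraMap (ZMod 2) (GaloisField 2 q) r := by
      intro ψ r
      exact RingHom.congr_fun (Subsingleton.elim ((ψ : GaloisField 2 q →+* GaloisField 2 q).comp
        (algebraMap (ZMod 2) (GaloisField 2 q))) (algebraMap (ZMod 2) (GaloisField 2 q))) r
    let Ψ : S →* (GaloisField 2 q ≃ₐ[ZMod 2] GaloisField 2 q) := MonoidHom.mk'
      (fun h => AlgEquiv.ofRingEquiv (f := φ h) (hcomm2 _))
      (fun g h => AlgEquiv.ext fun x => hφmul g h x)
    have hΨ : ∀ (h : S) x, Ψ h x = φ h x := fun _ _ => rfl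
    let σ' : S := ⟨σ, hσa⟩
    have hker : Ψ.ker = Subgroup.zpowers σ' := by
      apply le_antisymm
      · intro h hh
        rw [MonoidHom.mem_ker] at hh
        have h1 : ∀ x, c h x = c h 1 * x := by
          intro x
          have h2 : φ h x = x := by
            rw [← hΨ, hh]; rfl
          have h3 := hφ h (hS h) x
          rwa [h2] at h3
        obtain ⟨i, hi⟩ := hgen (c h 1) (hc1 h)
        have h4 : h = σ' ^ i := by
          apply Subtype.ext
          apply Subtype.ext
          apply Equiv.ext
          intro x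
          obtain ⟨n, rfl⟩ := ν.surjective x
          have e1 : (h : G) • ν n = ((σ' ^ i : S) : G) • ν n := by
            rw [hCν h (hS h) n, hCν ((σ' ^ i : S) : G) (hS _) n]
            congr 2
            apply e.injective
            rw [← hc, h1, ← hi, ← hTi, ← map_pow]
            rfl
          exact e1
        rw [h4]
        exact Subgroup.npow_mem_zpowers σ' i
      · rw [Subgroup.zpowers_le, MonoidHom.mem_ker]
        apply AlgEquiv.ext
        intro x
        rw [hΨ]
        show φ σ x = x
        have h1 : ∀ y, c σ y = t * y := by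
          intro y
          obtain ⟨v, rfl⟩ := e.surjective y
          rw [hc, heT]
        have h2 := hφ σ hσa x
        rw [h1, h1, mul_one] at h2
        exact (mul_left_cancel₀ ht0 h2).symm
    have hcardker : Nat.card Ψ.ker = p := by
      rw [hker, Nat.card_zpowers, ← hσ]
      exact (orderOf_injective S.subtype S.subtype_injective σ').symm
    have h1 := Subgroup.card_mul_index Ψ.ker
    rw [Subgroup.index_ker, hcardker, hcardS] at h1
    have h2 : Nat.card Ψ.range = d := Nat.eq_of_mul_eq_mul_left hp.pos h1
    have h3 : Nat.card Ψ.range ∣ Nat.card (GaloisField 2 q ≃ₐ[ZMod 2] GaloisField 2 q) :=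
      Subgroup.card_subgroup_dvd_card _
    rw [h2, IsGalois.card_aut_eq_finrank, GaloisField.finrank 2 hq0] at h3
    exact (Nat.dvd_prime hqp).mp h3
  · -- membership in the semi-affine group
    intro g
    obtain ⟨n, hn⟩ := ν.surjective (g • a)
    have hn' : (n : G) • a = g • a := hn
    have hh : ((n : G)⁻¹ * g) • a = a := by
      rw [mul_smul, ← hn', inv_smul_smul]
    refine ⟨Units.mk0 (c ((n : G)⁻¹ * g) 1) (hc1 _), e (Additive.ofMul n), φ ((n : G)⁻¹ * g), ?_⟩
    intro x
    obtain ⟨v, rfl⟩ := e.surjective x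
    show e (Additive.ofMul (ν.symm (g • ν (Additive.toMul (e.symm (e v)))))) = _
    rw [e.symm_apply_apply]
    have e1 : g • ν (Additive.toMul v) = ν (n * Additive.toMul (C ((n : G)⁻¹ * g) v)) := by
      have e2 := hCν _ hh (Additive.toMul v)
      have e3 : g • ν (Additive.toMul v) = (n : G) • (((n : G)⁻¹ * g) • ν (Additive.toMul v)) := by
        rw [← mul_smul, mul_inv_cancel_left]
      rw [e3, e2, hν, hν, mul_smul]
      rfl
    rw [e1, ν.symm_apply_apply]
    have e4 : e (Additive.ofMul (n * Additive.toMul (C ((n : G)⁻¹ * g) v))) =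
        e (Additive.ofMul n) + e (C ((n : G)⁻¹ * g) v) := by
      rw [← map_add]
      rfl
    rw [e4, ← hc, hφ _ hh, add_comm]
    rfl

end Cfsg.Agent.PermutationGroups.PrimePlusOne.Semiaffine
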