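import Cfsg.Agent.PermutationGroups.PrimePlusOne.SmallDegree
import Cfsg.Agent.PermutationGroups.PrimePlusOne.CentralEven
import Cfsg.Agent.PermutationGroups.PrimePlusOne.Identify
import Cfsg.Agent.PermutationGroups.PrimePlusOne.Central
import Cfsg.Agent.PermutationGroups.PrimePlusOne.Semiaffine

/-!
Groups of permutations of the projective line over `ZMod p` with affine stabiliser of `∞`.
-/

set_option autoImplicit false

namespace Cfsg.Agent.PermutationGroups.PrimePlusOne.Main

open OnePoint Cfsg.Agent.PermutationGroups.PrimePlusOne.Basic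

variable {p : ℕ} [hp : Fact p.Prime]
variable {G : Subgroup (Equiv.Perm (OnePoint (ZMod p)))} {w : Equiv.Perm (OnePoint (ZMod p))}

theorem tr_pow (b : ZMod p) (k : ℕ) : tr b ^ k = tr ((k : ZMod p) * b) := by
  induction k with
  | zero => rw [pow_zero, Nat.cast_zero, zero_mul, tr_zero]
  | succ k ih => rw [pow_succ, ih, tr_mul]; congr 1; push_cast; ring

theorem zmod_two_eq_one : ∀ y : ZMod 2, y ≠ 0 → y = 1 := by decide

theorem moebius_of_two (hp2 : p = 2) (S : Setting G w) :
    ∃ s : ZMod p, s ≠ 0 ∧ ∀ x : ZMod p, x ≠ 0 →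
      w (x : OnePoint (ZMod p)) = ((s * x⁻¹ : ZMod p) : OnePoint (ZMod p)) := by
  subst hp2
  refine ⟨1, one_ne_zero, fun x hx => ?_⟩
  have h2 := zmod_two_eq_one _ (S.fin_w_ne_zero hx)
  rw [← S.coe_fin_w hx, h2, zmod_two_eq_one x hx, inv_one, mul_one]

theorem main (S : Setting G w) {d : ℕ} (hG : Nat.card G = (p + 1) * p * d) :
    (d = p - 1 ∧ Nonempty (G ≃* Matrix.ProjGenLinGroup (Fin 2) (ZMod p))) ∨
    (2 * d = p - 1 ∧ Nonempty (G ≃* Matrix.ProjectiveSpecialLinearGroup (Fin 2) (ZMod p))) ∨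
    (∃ q : ℕ, q.Prime ∧ p + 1 = 2 ^ q ∧ (d = 1 ∨ d = q) ∧
      ∃ e : OnePoint (ZMod p) ≃ GaloisField 2 q, ∀ g : G,
        (e.symm.trans (((g : Equiv.Perm (OnePoint (ZMod p)))).trans e)) ∈
          Cfsg.semiaffineGroup (GaloisField 2 q)) := by
  classical
  have hcard : Fintype.card (OnePoint (ZMod p)) = p + 1 := by
    rw [← Nat.card_eq_fintype_card]
    change Nat.card (Option (ZMod p)) = p + 1
    rw [Finite.card_option, Nat.card_zmod]
  have mob : (∃ s : ZMod p, s ≠ 0 ∧ ∀ x : ZMod p, x ≠ 0 →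
      w (x : OnePoint (ZMod p)) = ((s * x⁻¹ : ZMod p) : OnePoint (ZMod p))) →
      (d = p - 1 ∧ Nonempty (G ≃* Matrix.ProjGenLinGroup (Fin 2) (ZMod p))) ∨
      (2 * d = p - 1 ∧ Nonempty (G ≃* Matrix.ProjectiveSpecialLinearGroup (Fin 2) (ZMod p))) := by
    rintro ⟨s, hs, hw⟩
    exact Identify.identify S hs hw hG
  by_cases hp2 : p = 2
  · rcases mob (moebius_of_two hp2 S) with h | h
    · exact Or.inl h
    · exact Or.inr (Or.inl h)
  by_cases hcomm : ∀ h ∈ G, h ∞ = ∞ →
      h ((0 : ZMod p) : OnePoint (ZMod p)) = ((0 : ZMod p) : OnePoint (ZMod p)) → w * h = h * w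
  · by_cases hodd : ∀ h ∈ G, h ∞ = ∞ →
        h ((0 : ZMod p) : OnePoint (ZMod p)) = ((0 : ZMod p) : OnePoint (ZMod p)) →
        h * h = 1 → h = 1
    · right; right
      obtain ⟨N, hN, htr, hreg, hN2⟩ := Central.exists_regular_normal hp2 G
        (fun b => ⟨tr b, S.tr_mem b, rfl, fun x => rfl⟩) S.aff w S.w_mem S.w_zero S.w_infty
        S.w_sq hcomm hodd
      have hσ1 : ∀ k : ℕ, (⟨tr 1, S.tr_mem 1⟩ : G) ^ k = ⟨tr (k : ZMod p), S.tr_mem _⟩ := by
        intro k
        apply Subtype.ext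
        change (tr (1 : ZMod p)) ^ k = tr (k : ZMod p)
        rw [tr_pow, mul_one]
      refine Semiaffine.semiaffine_of_regular_normal hp.out hcard G hG N hN htr hreg hN2 ∞
        ⟨tr 1, S.tr_mem 1⟩ rfl ?_ ?_
      · apply orderOf_eq_prime
        · rw [hσ1]
          apply Subtype.ext
          change tr ((p : ℕ) : ZMod p) = (1 : Equiv.Perm (OnePoint (ZMod p)))
          rw [ZMod.natCast_self, tr_zero]
        · intro h
          have h1 : tr (1 : ZMod p) = (1 : Equiv.Perm (OnePoint (ZMod p))) :=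
            congrArg Subtype.val h
          have h2 := congrArg (fun g : Equiv.Perm (OnePoint (ZMod p)) =>
            g ((0 : ZMod p) : OnePoint (ZMod p))) h1
          have h3 : (0 : ZMod p) + 1 = 0 := OnePoint.coe_injective h2
          rw [zero_add] at h3
          exact one_ne_zero h3
      · rintro ⟨g, hg⟩ hgi
        have hgi' : g ∞ = ∞ := hgi
        obtain ⟨a, b, ha, hab⟩ := S.aff g hg hgi'
        refine ⟨a.val, ?_⟩
        rw [hσ1]
        apply Subtype.ext
        change g * tr 1 * g⁻¹ = tr ((a.val : ℕ) : ZMod p)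
        rw [ZMod.natCast_val, ZMod.cast_id, mul_inv_eq_iff_eq_mul]
        apply Equiv.ext
        intro x
        rw [Equiv.Perm.mul_apply, Equiv.Perm.mul_apply]
        induction x using OnePoint.rec with
        | infty => rw [tr_infty, hgi', tr_infty]
        | coe x =>
          rw [tr_coe, hab, hab, tr_coe]
          congr 1; ring
    · push Not at hodd
      obtain ⟨z, hz, hzi, hz0, hzz, hz1⟩ := hodd
      rcases mob (CentralEven.moebius_of_central_even hp2 S hcomm hz hzi hz0 hzz hz1) with h | h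
      · exact Or.inl h
      · exact Or.inr (Or.inl h)
  · push Not at hcomm
    obtain ⟨g, hg, hgi, hg0, hgw⟩ := hcomm
    rcases mob (SmallDegree.moebius_of_not_central S hg hgi hg0 hgw) with h | h
    · exact Or.inl h
    · exact Or.inr (Or.inl h)

end Cfsg.Agent.PermutationGroups.PrimePlusOne.Main
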