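import Mathlib

/-!
Auxiliary facts on polynomials used for transitive groups of degree `p + 1`.
-/

set_option autoImplicit false

namespace Cfsg.Agent.PermutationGroups.PrimePlusOne.Poly

open Polynomial

theorem exists_coprime_parts {F : Type*} [Field F] (Q h : F[X]) (hQ : Q ≠ 0) :
    ∃ e U V : F[X], Q = e * U ∧ h = e * V ∧ IsCoprime U V := by
  classical
  have hg : EuclideanDomain.gcd Q h ≠ 0 := fun h0 => hQ (EuclideanDomain.gcd_eq_zero_iff.1 h0).1
  obtain ⟨U, hU⟩ := EuclideanDomain.gcd_dvd_left Q h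
  obtain ⟨V, hV⟩ := EuclideanDomain.gcd_dvd_right Q h
  refine ⟨EuclideanDomain.gcd Q h, U, V, hU, hV, ?_⟩
  refine ⟨EuclideanDomain.gcdA Q h, EuclideanDomain.gcdB Q h, ?_⟩
  apply mul_left_cancel₀ hg
  have h1 := EuclideanDomain.gcd_eq_gcd_ab Q h
  calc EuclideanDomain.gcd Q h * (EuclideanDomain.gcdA Q h * U + EuclideanDomain.gcdB Q h * V)
      = (EuclideanDomain.gcd Q h * U) * EuclideanDomain.gcdA Q h +
        (EuclideanDomain.gcd Q h * V) * EuclideanDomain.gcdB Q h := by ring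
    _ = Q * EuclideanDomain.gcdA Q h + h * EuclideanDomain.gcdB Q h := by rw [← hU, ← hV]
    _ = EuclideanDomain.gcd Q h * 1 := by rw [mul_one]; exact h1.symm

/-- A linear divisor of a polynomial all of whose roots are `0` is a multiple of `X`. -/
theorem linear_divisor {F : Type*} [Field F] (Q L : F[X]) (hroot : ∀ x, Q.eval x = 0 → x = 0)
    (hL : L.natDegree = 1) (hLQ : L ∣ Q) : ∃ c : F, c ≠ 0 ∧ L = C c * X := by
  obtain ⟨a, b, hab⟩ : ∃ a b, L = C a * X + C b :=
    ⟨_, _, Polynomial.eq_X_add_C_of_natDegree_le_one hL.le⟩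
  have ha : a ≠ 0 := by
    rintro rfl
    rw [hab] at hL
    simp at hL
  have hev : L.eval (-(b / a)) = 0 := by
    rw [hab]
    simp only [eval_add, eval_mul, eval_C, eval_X]
    field_simp
    ring
  have hev' : Q.eval (-(b / a)) = 0 := by
    obtain ⟨M, hM⟩ := hLQ
    rw [hM, eval_mul, hev, zero_mul]
  have h7 := hroot _ hev'
  have h8 : b = 0 := by
    have h9 : b / a = 0 := neg_eq_zero.1 h7
    rcases div_eq_zero_iff.1 h9 with h10 | h10
    · exact h10
    · exact absurd h10 ha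
  refine ⟨a, ha, ?_⟩
  rw [hab, h8, C_0, add_zero]

/-- A polynomial of degree `n` over a field all of whose roots are `0`, of the form
`U ^ n * R`. -/
theorem poly_key {F : Type*} [Field F] (n : ℕ) (hn : 2 ≤ n) (Q G h : F[X])
    (hQ : Q.natDegree = n + 1) (hh : h.natDegree ≤ n) (heq : G * Q ^ (n - 1) = h ^ n)
    (hh0 : h ≠ 0)
    (hroot : ∀ x, Q.eval x = 0 → x = 0) :
    ∃ c c' : F, c ≠ 0 ∧ Q = C c * X ^ (n + 1) ∧ h = C c' * X ^ n := by
  have hQ0 : Q ≠ 0 := by
    rintro rfl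
    simp at hQ
  obtain ⟨e, U, V, hQe, hhe, hcop⟩ := exists_coprime_parts Q h hQ0
  have he0 : e ≠ 0 := by
    rintro rfl
    exact hQ0 (by rw [hQe, zero_mul])
  have hU0 : U ≠ 0 := by
    rintro rfl
    exact hQ0 (by rw [hQe, mul_zero])
  have hV0 : V ≠ 0 := by
    rintro rfl
    exact hh0 (by rw [hhe, mul_zero])
  have hdQ : e.natDegree + U.natDegree = n + 1 := by
    rw [← hQ, hQe, natDegree_mul he0 hU0]
  have hdh : e.natDegree + V.natDegree ≤ n := by
    rw [hhe, natDegree_mul he0 hV0] at hh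
    exact hh
  have hdU : 1 ≤ U.natDegree := by omega
  -- G * U^(n-1) = e * V^n
  have h1 : G * U ^ (n - 1) = e * V ^ n := by
    have h2 : e ^ (n - 1) ≠ 0 := pow_ne_zero _ he0
    apply mul_left_cancel₀ h2
    obtain ⟨m, rfl⟩ : ∃ m, n = m + 1 := ⟨n - 1, by omega⟩
    rw [hQe, hhe] at heq
    simp only [Nat.add_sub_cancel] at heq ⊢
    calc e ^ m * (G * U ^ m) = G * (e * U) ^ m := by ring
      _ = (e * V) ^ (m + 1) := heq
      _ = e ^ m * (e * V ^ (m + 1)) := by ring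
  have h3 : U ^ (n - 1) ∣ e := by
    have h4 : U ^ (n - 1) ∣ V ^ n * e := by
      rw [mul_comm (V ^ n), ← h1]
      exact dvd_mul_left _ _
    exact (hcop.pow).dvd_of_dvd_mul_left h4
  obtain ⟨e', he'⟩ := h3
  have he'0 : e' ≠ 0 := by
    rintro rfl
    exact he0 (by rw [he', mul_zero])
  have hdeg : (n - 1) * U.natDegree + e'.natDegree + U.natDegree = n + 1 := by
    rw [← hdQ, he', natDegree_mul (pow_ne_zero _ hU0) he'0, natDegree_pow]
  have hU1 : U.natDegree = 1 := by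
    by_contra hne
    have h5 : 2 ≤ U.natDegree := by omega
    have h6 : (n - 1) * 2 ≤ (n - 1) * U.natDegree := Nat.mul_le_mul_left _ h5
    omega
  have he'1 : e'.natDegree = 1 := by
    rw [hU1] at hdeg
    omega
  obtain ⟨u, hu, hUX⟩ := linear_divisor Q U hroot hU1 ⟨e, by rw [hQe, mul_comm]⟩
  obtain ⟨u', hu', heX⟩ := linear_divisor Q e' hroot he'1 ⟨U ^ (n - 1) * U, by rw [hQe, he']; ring⟩
  have hVC : V.natDegree = 0 := by omega
  obtain ⟨v, hv⟩ : ∃ v, V = C v := ⟨_, Polynomial.eq_C_of_natDegree_eq_zero hVC⟩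
  obtain ⟨m, rfl⟩ : ∃ m, n = m + 1 := ⟨n - 1, by omega⟩
  simp only [Nat.add_sub_cancel] at he'
  refine ⟨u ^ (m + 1) * u', u ^ m * u' * v, mul_ne_zero (pow_ne_zero _ hu) hu', ?_, ?_⟩
  · rw [hQe, he', hUX, heX]
    simp only [C_mul, C_pow]
    ring
  · rw [hhe, he', hUX, heX, hv]
    simp only [C_mul, C_pow]
    ring

end Cfsg.Agent.PermutationGroups.PrimePlusOne.Poly
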