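import Cfsg.Agent.PermutationGroups.PrimePlusOne.Basic
import Cfsg.Agent.PermutationGroups.PrimePlusOne.Poly

/-!
Doubly transitive groups of degree `p + 1` with affine point stabiliser: if an involution `w`
swapping `0` and `∞` does not centralise the stabiliser of `0` and `∞`, then `w x = s / x`.

The proof considers the modules induced from the multiplier character of the stabiliser of `∞`
(over `ZMod p`), realised on functions on the projective line with a cocycle.
-/

set_option autoImplicit false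

namespace Cfsg.Agent.PermutationGroups.PrimePlusOne.Moebius

open Polynomial OnePoint Cfsg.Agent.PermutationGroups.PrimePlusOne.Basic
  Cfsg.Agent.PermutationGroups.PrimeDegree Cfsg.Agent.PermutationGroups.PrimePlusOne.Poly

variable {p : ℕ} [hp : Fact p.Prime]
variable {G : Subgroup (Equiv.Perm (OnePoint (ZMod p)))} {w : Equiv.Perm (OnePoint (ZMod p))}
variable {c : Equiv.Perm (OnePoint (ZMod p)) → OnePoint (ZMod p) → ZMod p}

/-- The action twisted by a cocycle. -/
def act (c : Equiv.Perm (OnePoint (ZMod p)) → OnePoint (ZMod p) → ZMod p)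
    (g : Equiv.Perm (OnePoint (ZMod p))) :
    (OnePoint (ZMod p) → ZMod p) →ₗ[ZMod p] (OnePoint (ZMod p) → ZMod p) where
  toFun v := fun x => c g (g⁻¹ x) * v (g⁻¹ x)
  map_add' u v := by
    ext x; simp only [Pi.add_apply]; ring
  map_smul' r v := by
    ext x; simp only [Pi.smul_apply, smul_eq_mul, RingHom.id_apply]; ring

theorem act_apply (g : Equiv.Perm (OnePoint (ZMod p))) (v : OnePoint (ZMod p) → ZMod p)
    (x : OnePoint (ZMod p)) : act c g v (g x) = c g x * v x := by
  change c g (g⁻¹ (g x)) * v (g⁻¹ (g x)) = _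
  rw [show g⁻¹ (g x) = x from g.symm_apply_apply x]

theorem act_mul (hc : IsCocycle G w c) {g g' : Equiv.Perm (OnePoint (ZMod p))} (hg : g ∈ G)
    (hg' : g' ∈ G) (v : OnePoint (ZMod p) → ZMod p) :
    act c (g * g') v = act c g (act c g' v) := by
  ext x
  obtain ⟨y, rfl⟩ : ∃ y, x = (g * g') y := ⟨(g * g')⁻¹ x, ((g * g').apply_symm_apply x).symm⟩
  rw [act_apply, Equiv.Perm.mul_apply, act_apply, act_apply, hc.mul g hg g' hg']
  ring

theorem act_one (hc : IsCocycle G w c) (v : OnePoint (ZMod p) → ZMod p) : act c 1 v = v := by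
  ext x
  have := act_apply (c := c) 1 v x
  rw [hc.one, one_mul] at this
  exact this

theorem act_tr_coe (hc : IsCocycle G w c) (b : ZMod p) (v : OnePoint (ZMod p) → ZMod p)
    (x : ZMod p) : act c (tr b) v (x : OnePoint (ZMod p)) =
      v ((x - b : ZMod p) : OnePoint (ZMod p)) := by
  have h := act_apply (c := c) (tr b) v ((x - b : ZMod p) : OnePoint (ZMod p))
  rw [tr_coe, sub_add_cancel, hc.tr, one_mul] at h
  exact h

theorem act_tr_infty (hc : IsCocycle G w c) (b : ZMod p) (v : OnePoint (ZMod p) → ZMod p) :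
    act c (tr b) v ∞ = v ∞ := by
  have h := act_apply (c := c) (tr b) v ∞
  rw [tr_infty, hc.tr, one_mul] at h
  exact h

/-- The function `1` on the affine line, `0` at `∞`. -/
def delta (x : OnePoint (ZMod p)) : ZMod p := Option.elim x 0 (fun _ => 1)

theorem delta_infty : delta (∞ : OnePoint (ZMod p)) = 0 := rfl

theorem delta_coe (x : ZMod p) : delta (x : OnePoint (ZMod p)) = 1 := rfl

/-- The submodule generated by `delta`. -/
def L (G : Subgroup (Equiv.Perm (OnePoint (ZMod p))))
    (c : Equiv.Perm (OnePoint (ZMod p)) → OnePoint (ZMod p) → ZMod p) :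
    Submodule (ZMod p) (OnePoint (ZMod p) → ZMod p) :=
  Submodule.span (ZMod p) {v | ∃ g ∈ G, v = act c g delta}

theorem act_mem_L (hc : IsCocycle G w c) {g : Equiv.Perm (OnePoint (ZMod p))} (hg : g ∈ G)
    {v : OnePoint (ZMod p) → ZMod p} (hv : v ∈ L G c) : act c g v ∈ L G c := by
  have h : L G c ≤ (L G c).comap (act c g) := by
    rw [L, Submodule.span_le]
    rintro _ ⟨g', hg', rfl⟩
    change act c g (act c g' delta) ∈ L G c
    rw [← act_mul hc hg hg']
    exact Submodule.subset_span ⟨g * g', G.mul_mem hg hg', rfl⟩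
  exact h hv

theorem delta_mem_L (hc : IsCocycle G w c) : delta ∈ L G c :=
  Submodule.subset_span ⟨1, G.one_mem, (act_one hc delta).symm⟩

theorem act_affine_delta (S : Setting G w) (hc : IsCocycle G w c)
    {g : Equiv.Perm (OnePoint (ZMod p))} (hg : g ∈ G) (h : g ∞ = ∞) :
    act c g delta = c g ((0 : ZMod p) : OnePoint (ZMod p)) • delta := by
  obtain ⟨a, b, ha, hab⟩ := S.aff g hg h
  have key : ∀ y : ZMod p, c g (y : OnePoint (ZMod p)) =
      c g ((0 : ZMod p) : OnePoint (ZMod p)) := by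
    intro y
    have h1 : g * tr y = tr (a * y) * g := by
      apply Equiv.ext
      intro x
      rw [Equiv.Perm.mul_apply, Equiv.Perm.mul_apply]
      induction x using OnePoint.rec with
      | infty => rw [tr_infty, h, tr_infty]
      | coe x =>
        rw [tr_coe, hab, hab, tr_coe]
        congr 1; ring
    have h2 := hc.mul g hg (tr y) (S.tr_mem y) ((0 : ZMod p) : OnePoint (ZMod p))
    rw [h1, hc.mul _ (S.tr_mem _) g hg, hc.tr, hc.tr, one_mul, mul_one, tr_coe, zero_add] at h2
    exact h2.symm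
  ext x
  obtain ⟨y, rfl⟩ : ∃ y, x = g y := ⟨g⁻¹ x, (g.apply_symm_apply x).symm⟩
  rw [act_apply, Pi.smul_apply, smul_eq_mul]
  induction y using OnePoint.rec with
  | infty => rw [delta_infty, mul_zero, h, delta_infty, mul_zero]
  | coe y => rw [delta_coe, hab, delta_coe, key]

/-- The generators of `L`. -/
theorem act_delta_cases (S : Setting G w) (hc : IsCocycle G w c)
    {g : Equiv.Perm (OnePoint (ZMod p))} (hg : g ∈ G) :
    (∃ r : ZMod p, act c g delta = r • delta) ∨
      ∃ r y : ZMod p, act c g delta = r • act c (tr y) (act c w delta) := by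
  by_cases h : g ∞ = ∞
  · left
    exact ⟨_, act_affine_delta S hc hg h⟩
  · right
    set y := fin (g ∞) with hy
    have hy' : (y : OnePoint (ZMod p)) = g ∞ := coe_fin h
    set b := w⁻¹ * (tr (-y) * g) with hb
    have hbG : b ∈ G := G.mul_mem (G.inv_mem S.w_mem) (G.mul_mem (S.tr_mem _) hg)
    have hb1 : b ∞ = ∞ := by
      rw [hb, Equiv.Perm.mul_apply, Equiv.Perm.mul_apply, ← hy', tr_coe, add_neg_cancel,
        Equiv.Perm.inv_eq_iff_eq, S.w_infty]
    have hg2 : g = tr y * (w * b) := by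
      rw [hb, mul_inv_cancel_left, ← mul_assoc, tr_mul, add_neg_cancel, tr_zero, one_mul]
    refine ⟨c b ((0 : ZMod p) : OnePoint (ZMod p)), y, ?_⟩
    rw [hg2, act_mul hc (S.tr_mem y) (G.mul_mem S.w_mem hbG), act_mul hc S.w_mem hbG,
      act_affine_delta S hc hbG hb1, _root_.map_smul, _root_.map_smul]

theorem act_w_delta_infty (S : Setting G w) (hc : IsCocycle G w c) : act c w delta ∞ = 1 := by
  have h := act_apply (c := c) w delta ((0 : ZMod p) : OnePoint (ZMod p))
  rw [S.w_zero, hc.w_zero, delta_coe, one_mul] at h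
  exact h

theorem act_w_zero (S : Setting G w) (hc : IsCocycle G w c) (v : OnePoint (ZMod p) → ZMod p) :
    act c w v ((0 : ZMod p) : OnePoint (ZMod p)) = v ∞ := by
  have h := act_apply (c := c) w v ∞
  rw [S.w_infty, hc.w_infty, one_mul] at h
  exact h

theorem act_w_infty (S : Setting G w) (hc : IsCocycle G w c) (v : OnePoint (ZMod p) → ZMod p) :
    act c w v ∞ = v ((0 : ZMod p) : OnePoint (ZMod p)) := by
  have h := act_apply (c := c) w v ((0 : ZMod p) : OnePoint (ZMod p))
  rw [S.w_zero, hc.w_zero, one_mul] at h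
  exact h

theorem act_w_coe (S : Setting G w) {v : OnePoint (ZMod p) → ZMod p} {x : ZMod p} :
    act c w v (x : OnePoint (ZMod p)) =
      c w (w (x : OnePoint (ZMod p))) * v (w (x : OnePoint (ZMod p))) := by
  have h := act_apply (c := c) w v (w (x : OnePoint (ZMod p)))
  rw [S.w_w] at h
  exact h

theorem act_w_delta_coe (S : Setting G w) {x : ZMod p} (hx : x ≠ 0) :
    act c w delta (x : OnePoint (ZMod p)) = c w (w (x : OnePoint (ZMod p))) := by
  rw [act_w_coe S, ← S.coe_fin_w hx, delta_coe, mul_one]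

/-- The polynomial data attached to a cocycle. -/
structure PolyData (w : Equiv.Perm (OnePoint (ZMod p)))
    (c : Equiv.Perm (OnePoint (ZMod p)) → OnePoint (ZMod p) → ZMod p) (Q : (ZMod p)[X]) :
    Prop where
  deg : Q.natDegree ≤ p - 1
  eval : ∀ x : ZMod p, Q.eval x = act c w delta (x : OnePoint (ZMod p))

namespace PolyData

variable {Q : (ZMod p)[X]}

theorem eval_zero (S : Setting G w) (hc : IsCocycle G w c) (hQ : PolyData w c Q) :
    Q.eval 0 = 0 := by
  rw [hQ.eval, act_w_zero S hc, delta_infty]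

theorem eval_ne (S : Setting G w) (hc : IsCocycle G w c) (hQ : PolyData w c Q) {x : ZMod p}
    (hx : x ≠ 0) : Q.eval x ≠ 0 := by
  rw [hQ.eval, act_w_delta_coe S hx]
  exact hc.ne w S.w_mem _

theorem one_le (S : Setting G w) (hc : IsCocycle G w c) (hQ : PolyData w c Q) :
    1 ≤ Q.natDegree := by
  by_contra h
  have h0 : Q.natDegree = 0 := by omega
  have h1 := hQ.eval_zero S hc
  have h2 := hQ.eval_ne S hc one_ne_zero
  rw [Polynomial.eq_C_of_natDegree_eq_zero h0, eval_C] at h1 h2
  exact h2 h1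

theorem ne_zero (S : Setting G w) (hc : IsCocycle G w c) (hQ : PolyData w c Q) : Q ≠ 0 := by
  rintro rfl
  have := hQ.one_le S hc
  simp at this

theorem lead_ne (S : Setting G w) (hc : IsCocycle G w c) (hQ : PolyData w c Q) :
    Q.coeff Q.natDegree ≠ 0 :=
  Polynomial.leadingCoeff_ne_zero.2 (hQ.ne_zero S hc)

/-- Elements of `L` are polynomials of degree at most `deg Q` on the affine line; the value at
`∞` is determined by the top coefficient. -/
theorem exists_poly_of_mem (S : Setting G w) (hc : IsCocycle G w c) (hQ : PolyData w c Q)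
    {v : OnePoint (ZMod p) → ZMod p} (hv : v ∈ L G c) :
    ∃ q : (ZMod p)[X], q.natDegree ≤ Q.natDegree ∧
      (∀ x : ZMod p, v (x : OnePoint (ZMod p)) = q.eval x) ∧
      q.coeff Q.natDegree = Q.coeff Q.natDegree * v ∞ := by
  induction hv using Submodule.span_induction with
  | mem v hv =>
    obtain ⟨g, hg, rfl⟩ := hv
    rcases act_delta_cases S hc hg with ⟨r, hr⟩ | ⟨r, y, hr⟩
    · refine ⟨C r, by simp, fun x => ?_, ?_⟩
      · rw [hr, Pi.smul_apply, delta_coe, smul_eq_mul, mul_one, eval_C]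
      · rw [hr, Pi.smul_apply, delta_infty, smul_zero, mul_zero, coeff_C_of_ne_zero]
        have := hQ.one_le S hc
        omega
    · refine ⟨C r * taylor (-y) Q, ?_, fun x => ?_, ?_⟩
      · refine le_trans (natDegree_C_mul_le _ _) ?_
        rw [natDegree_taylor]
      · rw [hr, Pi.smul_apply, act_tr_coe hc, smul_eq_mul, eval_mul, eval_C, taylor_eval,
          hQ.eval, sub_eq_add_neg]
      · rw [hr, Pi.smul_apply, act_tr_infty hc, act_w_delta_infty S hc, smul_eq_mul, mul_one,
          coeff_C_mul, coeff_taylor_natDegree, leadingCoeff, mul_comm]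
  | zero => exact ⟨0, by simp, fun x => by simp, by simp⟩
  | add u v _ _ hu hv =>
    obtain ⟨q, h1, h2, h3⟩ := hu
    obtain ⟨q', h1', h2', h3'⟩ := hv
    refine ⟨q + q', le_trans (natDegree_add_le _ _) (max_le h1 h1'), fun x => ?_, ?_⟩
    · rw [Pi.add_apply, h2, h2', eval_add]
    · rw [coeff_add, h3, h3', Pi.add_apply]; ring
  | smul r v _ hv =>
    obtain ⟨q, h1, h2, h3⟩ := hv
    refine ⟨C r * q, le_trans (natDegree_C_mul_le _ _) h1, fun x => ?_, ?_⟩
    · rw [Pi.smul_apply, h2, eval_mul, eval_C, smul_eq_mul]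
    · rw [coeff_C_mul, h3, Pi.smul_apply, smul_eq_mul]; ring

theorem exists_mem_of_poly (S : Setting G w) (hc : IsCocycle G w c) (hQ : PolyData w c Q)
    (q : (ZMod p)[X]) (hq : q.natDegree ≤ Q.natDegree) :
    ∃ v ∈ L G c, (∀ x : ZMod p, v (x : OnePoint (ZMod p)) = q.eval x) := by
  let R : (OnePoint (ZMod p) → ZMod p) →ₗ[ZMod p] (ZMod p → ZMod p) :=
    LinearMap.funLeft (ZMod p) (ZMod p) ((↑) : ZMod p → OnePoint (ZMod p))
  have hcast : ∀ x : ZMod p, ZMod.castHom (dvd_refl p) (ZMod p) x = x := by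
    intro x
    rw [ZMod.castHom_self]
    rfl
  have hshift : ∀ f ∈ (L G c).map R, (fun x => f (x + 1)) ∈ (L G c).map R := by
    rintro _ ⟨v, hv, rfl⟩
    refine ⟨act c (tr (-1)) v, act_mem_L hc (S.tr_mem _) hv, ?_⟩
    ext x
    change act c (tr (-1)) v (x : OnePoint (ZMod p)) = v ((x + 1 : ZMod p) : OnePoint (ZMod p))
    rw [act_tr_coe hc, sub_neg_eq_add]
  have hlt : Q.natDegree < p := by
    have := hQ.deg
    have := hp.out.pos
    omega
  have h1 := PrimeDegreeHeart.mem_of_natDegree_le ((L G c).map R) hshift Q.natDegree Q rfl hlt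
    (hQ.ne_zero S hc) ?_ q hq
  · obtain ⟨v, hv, hvq⟩ := h1
    refine ⟨v, hv, fun x => ?_⟩
    have h2 := congrFun hvq x
    rw [hcast] at h2
    exact h2
  · refine ⟨act c w delta, act_mem_L hc S.w_mem (delta_mem_L hc), ?_⟩
    ext x
    rw [hcast, hQ.eval]
    rfl

theorem exists_mem_of_poly_lt (S : Setting G w) (hc : IsCocycle G w c) (hQ : PolyData w c Q)
    (q : (ZMod p)[X]) (hq : q.natDegree < Q.natDegree) :
    ∃ v ∈ L G c, (∀ x : ZMod p, v (x : OnePoint (ZMod p)) = q.eval x) ∧ v ∞ = 0 := by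
  obtain ⟨v, hv, hvq⟩ := hQ.exists_mem_of_poly S hc q hq.le
  refine ⟨v, hv, hvq, ?_⟩
  obtain ⟨q', h1, h2, h3⟩ := hQ.exists_poly_of_mem S hc hv
  have h4 : q = q' := poly_ext (le_trans hq.le hQ.deg) (le_trans h1 hQ.deg)
    (fun x => by rw [← hvq, h2])
  subst h4
  rw [coeff_eq_zero_of_natDegree_lt hq] at h3
  exact (mul_eq_zero.1 h3.symm).resolve_left (hQ.lead_ne S hc)

end PolyData

theorem exists_polyData (w : Equiv.Perm (OnePoint (ZMod p)))
    (c : Equiv.Perm (OnePoint (ZMod p)) → OnePoint (ZMod p) → ZMod p) :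
    ∃ Q : (ZMod p)[X], PolyData w c Q := by
  obtain ⟨Q, h1, h2⟩ := exists_poly (fun x : ZMod p => act c w delta (x : OnePoint (ZMod p)))
  exact ⟨Q, h1, h2⟩

end Cfsg.Agent.PermutationGroups.PrimePlusOne.Moebius
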