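import Cfsg.Agent.PermutationGroups.PrimePlusOne.Basic

/-!
Transitive groups of degree `p + 1` and order `(p + 1) p d` with `d < p`: labelling by the
projective line so that the point stabiliser becomes affine.
-/

set_option autoImplicit false

namespace Cfsg.Agent.PermutationGroups.PrimePlusOne.Setup

open OnePoint Cfsg.Agent.PermutationGroups.PrimePlusOne.Basic

/-- A permutation of order `p` of a set with `p` elements is `x ↦ x + 1` in a labelling. -/
theorem exists_label {X : Type*} [Fintype X] [DecidableEq X] {p : ℕ} [Fact p.Prime]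
    (hX : Fintype.card X = p) (σ : Equiv.Perm X) (hσ : orderOf σ = p) :
    ∃ e : X ≃ ZMod p, ∀ x, e (σ x) = e x + 1 := by
  have hp : p.Prime := Fact.out
  have hcyc : σ.IsCycle := Equiv.Perm.isCycle_of_prime_order'' (by rw [hX]; exact hp)
    (by rw [hX, hσ])
  obtain ⟨a, ha, -⟩ := id hcyc
  have hval : ∀ k : ZMod p, σ ^ (k + 1).val = σ * σ ^ k.val := by
    intro k
    have h1 : (k + 1).val = (k.val + 1) % p := by
      rw [ZMod.val_add, ZMod.val_one]
    have h2 : σ ^ ((k.val + 1) % p) = σ ^ (k.val + 1) := by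
      have := pow_mod_orderOf σ (k.val + 1)
      rwa [hσ] at this
    rw [h1, ← pow_succ', h2]
  let f : ZMod p → X := fun k => (σ ^ k.val) a
  have hinj : Function.Injective f := by
    have key : ∀ j k : ℕ, j ≤ k → k < p → (σ ^ j) a = (σ ^ k) a → j = k := by
      intro j k hjk hk h
      have h2 : (σ ^ (k - j)) a = a := by
        have : σ ^ k = σ ^ j * σ ^ (k - j) := by rw [← pow_add]; congr 1; omega
        rw [this, Equiv.Perm.mul_apply] at h
        exact ((σ ^ j).injective h).symm
      have h3 : σ ^ (k - j) = 1 := (hcyc.pow_eq_one_iff' ha).2 h2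
      have h4 : p ∣ k - j := by rw [← hσ]; exact orderOf_dvd_of_pow_eq_one h3
      have h5 : k - j = 0 := Nat.eq_zero_of_dvd_of_lt h4 (by omega)
      omega
    intro j k h
    apply ZMod.val_injective
    rcases le_total j.val k.val with h1 | h1
    · exact key _ _ h1 (ZMod.val_lt k) h
    · exact (key _ _ h1 (ZMod.val_lt j) h.symm).symm
  have hbij : Function.Bijective f := by
    rw [Fintype.bijective_iff_injective_and_card]
    exact ⟨hinj, by rw [ZMod.card, hX]⟩
  let e := (Equiv.ofBijective f hbij).symm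
  refine ⟨e, fun x => ?_⟩
  obtain ⟨k, rfl⟩ := hbij.2 x
  have h1 : e (f k) = k := (Equiv.ofBijective f hbij).symm_apply_apply k
  have h2 : σ (f k) = f (k + 1) := by
    change σ ((σ ^ k.val) a) = (σ ^ (k + 1).val) a
    rw [hval, Equiv.Perm.mul_apply]
  have h3 : e (f (k + 1)) = k + 1 := (Equiv.ofBijective f hbij).symm_apply_apply (k + 1)
  rw [h1, h2, h3]

/-- A group of order `p * d` with `d < p` has a normal subgroup of order `p`. -/
theorem exists_normal_of_card {H : Type*} [Group H] [Finite H] {p d : ℕ} [Fact p.Prime]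
    (hH : Nat.card H = p * d) (hd : d < p) :
    ∃ σ : H, orderOf σ = p ∧ ∀ g : H, ∃ k : ℕ, g * σ * g⁻¹ = σ ^ k := by
  have hp : p.Prime := Fact.out
  have hd0 : 0 < d := by
    rcases Nat.eq_zero_or_pos d with h | h
    · rw [h, mul_zero] at hH
      exact absurd hH Nat.card_pos.ne'
    · exact h
  obtain ⟨σ, hσ⟩ := exists_prime_orderOf_dvd_card' (G := H) p (by rw [hH]; exact dvd_mul_right _ _)
  refine ⟨σ, hσ, ?_⟩
  have hfac : (Nat.card H).factorization p = 1 := by
    rw [hH, Nat.factorization_mul hp.ne_zero hd0.ne', Finsupp.add_apply,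
      hp.factorization_self, Nat.factorization_eq_zero_of_lt hd]
  let P : Sylow p H := Sylow.ofCard (Subgroup.zpowers σ) (by
    rw [hfac, pow_one, Nat.card_zpowers, hσ])
  have hPindex : (P : Subgroup H).index = d := by
    have h1 := Subgroup.card_mul_index (P : Subgroup H)
    have h2 : Nat.card (P : Subgroup H) = p := by
      change Nat.card (Subgroup.zpowers σ) = p
      rw [Nat.card_zpowers, hσ]
    rw [h2, hH] at h1
    exact Nat.eq_of_mul_eq_mul_left hp.pos h1
  have h1 : Nat.card (Sylow p H) ∣ d := by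
    rw [← hPindex]; exact Sylow.card_dvd_index P
  have h2 : Nat.card (Sylow p H) ≡ 1 [MOD p] := card_sylow_modEq_one p H
  have h3 : Nat.card (Sylow p H) = 1 := by
    have h4 := Nat.le_of_dvd hd0 h1
    have h5 : Nat.card (Sylow p H) % p = 1 % p := h2
    rw [Nat.mod_eq_of_lt (by omega), Nat.mod_eq_of_lt hp.one_lt] at h5
    exact h5
  have h4 : Subsingleton (Sylow p H) := (Nat.card_eq_one_iff_unique.1 h3).1
  have h5 : (P : Subgroup H).Normal := Sylow.normal_of_subsingleton P
  intro g
  have h6 : g * σ * g⁻¹ ∈ Subgroup.zpowers σ := h5.conj_mem σ (Subgroup.mem_zpowers σ) g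
  obtain ⟨k, hk⟩ := mem_powers_iff_mem_zpowers.2 h6
  exact ⟨k, hk.symm⟩

theorem exists_setting {α : Type*} [Fintype α] [DecidableEq α] {p d : ℕ} [Fact p.Prime]
    (hα : Fintype.card α = p + 1) (G : Subgroup (Equiv.Perm α)) [MulAction.IsPretransitive G α]
    (hG : Nat.card G = (p + 1) * p * d) (hd : d < p) :
    ∃ (e : α ≃ OnePoint (ZMod p)) (w : Equiv.Perm (OnePoint (ZMod p))),
      Basic.Setting (G.map e.permCongrHom.toMonoidHom) w := by
  classical
  have hp : p.Prime := Fact.out
  have hne : Nonempty α := by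
    rw [← Fintype.card_pos_iff, hα]; omega
  obtain ⟨a⟩ := hne
  -- the stabiliser of `a`
  have hst : Nat.card (MulAction.stabilizer G a) = p * d := by
    have h1 := MulAction.index_stabilizer_of_transitive G a
    have h2 := Subgroup.card_mul_index (MulAction.stabilizer G a)
    rw [h1, Nat.card_eq_fintype_card (α := α), hα, hG] at h2
    have h3 : Nat.card (MulAction.stabilizer G a) * (p + 1) = (p * d) * (p + 1) := by
      rw [h2]; ring
    exact Nat.eq_of_mul_eq_mul_right (Nat.succ_pos p) h3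
  obtain ⟨⟨⟨σ, hσG⟩, hσa⟩, hσ, hnorm⟩ := exists_normal_of_card hst hd
  have hσa' : σ a = a := hσa
  have hσp : orderOf σ = p := by
    rw [← hσ, ← Subgroup.orderOf_coe, ← Subgroup.orderOf_coe]
  -- restriction to the complement of `a`
  have hmem : ∀ x : α, x ≠ a ↔ σ x ≠ a := by
    intro x
    constructor
    · intro h h1
      rw [← hσa'] at h1
      exact h (σ.injective h1)
    · rintro h rfl
      exact h hσa'
  let σ' : Equiv.Perm {x // x ≠ a} := σ.subtypePerm (fun x => (hmem x).symm)
  have hσ'val : ∀ (k : ℕ) (x : {x // x ≠ a}), (((σ' ^ k) x : {x // x ≠ a}) : α) = (σ ^ k) x := by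
    intro k
    induction k with
    | zero => intro x; rfl
    | succ k ih =>
      intro x
      rw [pow_succ', pow_succ', Equiv.Perm.mul_apply, Equiv.Perm.mul_apply, ← ih]
      rfl
  have hσ' : orderOf σ' = p := by
    apply orderOf_eq_prime
    · apply Equiv.ext
      intro x
      apply Subtype.ext
      rw [hσ'val, ← hσp, pow_orderOf_eq_one]
      rfl
    · intro h
      have h1 : σ = 1 := by
        apply Equiv.ext
        intro x
        by_cases hx : x = a
        · rw [hx, hσa']; rfl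
        · have h2 := hσ'val 1 ⟨x, hx⟩
          rw [h, one_pow, pow_one] at h2
          exact h2.symm
      rw [h1, orderOf_one] at hσp
      exact hp.one_lt.ne hσp
  have hcardX : Fintype.card {x // x ≠ a} = p := by
    rw [Fintype.card_subtype_compl, Fintype.card_subtype_eq, hα]
    omega
  obtain ⟨e₀, he₀⟩ := exists_label hcardX σ' hσ'
  let e : α ≃ OnePoint (ZMod p) :=
    (Equiv.optionSubtypeNe a).symm.trans (Equiv.optionCongr e₀)
  have hea : e a = ∞ := by
    change Equiv.optionCongr e₀ ((Equiv.optionSubtypeNe a).symm a) = ∞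
    rw [Equiv.optionSubtypeNe_symm_self]
    rfl
  have hex : ∀ x (hx : x ≠ a), e x = ((e₀ ⟨x, hx⟩ : ZMod p) : OnePoint (ZMod p)) := by
    intro x hx
    change Equiv.optionCongr e₀ ((Equiv.optionSubtypeNe a).symm x) = _
    rw [Equiv.optionSubtypeNe_symm_of_ne hx]
    rfl
  set G' := G.map e.permCongrHom.toMonoidHom with hG'
  have hconj : ∀ (g : Equiv.Perm α) (y : OnePoint (ZMod p)),
      (e.permCongrHom.toMonoidHom g) y = e (g (e.symm y)) := fun g y => rfl
  -- `σ` becomes the translation by `1`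
  have htr1 : e.permCongrHom.toMonoidHom σ = tr 1 := by
    apply Equiv.ext
    intro y
    rw [hconj]
    induction y using OnePoint.rec with
    | infty =>
      have h1 : e.symm ∞ = a := by rw [Equiv.symm_apply_eq, hea]
      rw [h1, hσa', hea, tr_infty]
    | coe y =>
      obtain ⟨x, hx⟩ : ∃ x, e x = (y : OnePoint (ZMod p)) := e.surjective _
      have hxa : x ≠ a := by
        rintro rfl
        rw [hea] at hx
        exact OnePoint.infty_ne_coe y hx
      have h1 : e.symm (y : OnePoint (ZMod p)) = x := by rw [Equiv.symm_apply_eq, hx]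
      rw [h1, hex _ ((hmem x).1 hxa)]
      have h2 : e₀ ⟨σ x, (hmem x).1 hxa⟩ = e₀ ⟨x, hxa⟩ + 1 := he₀ ⟨x, hxa⟩
      rw [hex x hxa] at hx
      rw [h2, OnePoint.coe_injective hx, tr_coe]
  have htr1' : tr 1 ∈ G' := by
    rw [← htr1]
    exact Subgroup.mem_map_of_mem _ hσG
  have trpow : ∀ k : ℕ, tr (1 : ZMod p) ^ k = tr (k : ZMod p) := by
    intro k
    induction k with
    | zero => rw [pow_zero, Nat.cast_zero, tr_zero]
    | succ k ih => rw [pow_succ, ih, tr_mul]; congr 1; push_cast; ring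
  have htr : ∀ b : ZMod p, tr b ∈ G' := by
    intro b
    have h1 := G'.pow_mem htr1' b.val
    rwa [trpow, ZMod.natCast_val, ZMod.cast_id] at h1
  -- affine stabiliser
  have haff : ∀ g ∈ G', g ∞ = ∞ → ∃ a b : ZMod p, a ≠ 0 ∧
      ∀ x : ZMod p, g x = ((a * x + b : ZMod p) : OnePoint (ZMod p)) := by
    rintro _ ⟨g, hg, rfl⟩ hgi
    have hga : g a = a := by
      rw [hconj] at hgi
      have h1 : e.symm ∞ = a := by rw [Equiv.symm_apply_eq, hea]
      rw [h1] at hgi
      rw [← hea] at hgi
      exact e.injective hgi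
    obtain ⟨k, hk⟩ := hnorm ⟨⟨g, hg⟩, hga⟩
    have hk' : g * σ * g⁻¹ = σ ^ k := congrArg (fun t => ((t : G) : Equiv.Perm α))
      (congrArg Subtype.val hk)
    set g' := e.permCongrHom.toMonoidHom g with hg'
    have hk2 : g' * tr 1 * g'⁻¹ = tr (k : ZMod p) := by
      rw [← trpow, ← htr1, hg', ← map_mul, ← map_inv, ← map_mul, hk', map_pow]
    have hk3 : g' * tr 1 = tr (k : ZMod p) * g' := by
      rw [← hk2, inv_mul_cancel_right]
    have hfin : ∀ x : ZMod p, g' (x : OnePoint (ZMod p)) ≠ ∞ := by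
      intro x h
      rw [← hgi] at h
      exact OnePoint.coe_ne_infty x (g'.injective h)
    obtain ⟨b, hb⟩ : ∃ b : ZMod p, g' ((0 : ZMod p) : OnePoint (ZMod p)) =
        (b : OnePoint (ZMod p)) := ⟨fin (g' ((0 : ZMod p) : OnePoint (ZMod p))),
          (coe_fin (hfin 0)).symm⟩
    have hval : ∀ n : ℕ, g' (((n : ZMod p)) : OnePoint (ZMod p)) =
        (((k : ZMod p) * n + b : ZMod p) : OnePoint (ZMod p)) := by
      intro n
      induction n with
      | zero => rw [Nat.cast_zero, hb, mul_zero, zero_add]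
      | succ n ih =>
        have h1 : g' (tr 1 ((n : ZMod p) : OnePoint (ZMod p))) =
            tr (k : ZMod p) (g' ((n : ZMod p) : OnePoint (ZMod p))) := by
          rw [← Equiv.Perm.mul_apply, hk3, Equiv.Perm.mul_apply]
        rw [tr_coe, ih, tr_coe] at h1
        rw [Nat.cast_succ, h1]
        congr 1
        ring
    have hall : ∀ x : ZMod p, g' (x : OnePoint (ZMod p)) =
        (((k : ZMod p) * x + b : ZMod p) : OnePoint (ZMod p)) := by
      intro x
      have h1 := hval x.val
      rwa [ZMod.natCast_val, ZMod.cast_id] at h1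
    refine ⟨k, b, ?_, hall⟩
    intro h0
    have h1 := hall 0
    have h2 := hall 1
    rw [h0, zero_mul, zero_add] at h1 h2
    rw [← h1] at h2
    exact one_ne_zero (OnePoint.coe_injective (g'.injective h2))
  -- transitivity
  have htrans : ∀ y : OnePoint (ZMod p), ∃ g ∈ G', g ∞ = y := by
    intro y
    obtain ⟨g, hg⟩ := MulAction.exists_smul_eq G a (e.symm y)
    refine ⟨e.permCongrHom.toMonoidHom g, Subgroup.mem_map_of_mem _ g.2, ?_⟩
    rw [hconj]
    have h1 : e.symm ∞ = a := by rw [Equiv.symm_apply_eq, hea]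
    have h2 : (g : Equiv.Perm α) a = e.symm y := hg
    rw [h1, h2, Equiv.apply_symm_apply]
  have htwo : ∀ x y : OnePoint (ZMod p), x ≠ y →
      ∃ g ∈ G', g ((0 : ZMod p) : OnePoint (ZMod p)) = x ∧ g ∞ = y := by
    intro x y hxy
    obtain ⟨h, hh, hhy⟩ := htrans y
    have h1 : h⁻¹ x ≠ ∞ := by
      intro h2
      rw [Equiv.Perm.inv_eq_iff_eq, hhy] at h2
      exact hxy h2
    refine ⟨h * tr (fin (h⁻¹ x)), G'.mul_mem hh (htr _), ?_, ?_⟩
    · rw [Equiv.Perm.mul_apply, tr_coe, zero_add, coe_fin h1]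
      exact h.apply_symm_apply x
    · rw [Equiv.Perm.mul_apply, tr_infty, hhy]
  -- an involution
  have hcardG' : Nat.card G' = (p + 1) * p * d := by
    rw [← hG]
    exact Nat.card_congr (Subgroup.equivMapOfInjective G _
      (e.permCongrHom : Equiv.Perm α ≃* _).injective).toEquiv.symm
  have h2dvd : 2 ∣ Nat.card G' := by
    rw [hcardG']
    have h1 : 2 ∣ (p + 1) * p := by
      rw [mul_comm]
      exact (Nat.even_mul_succ_self p).two_dvd
    exact Dvd.dvd.mul_right h1 d
  have hfinG' : Finite G' := by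
    have : Finite (Equiv.Perm (OnePoint (ZMod p))) := inferInstance
    infer_instance
  obtain ⟨⟨τ, hτG⟩, hτ⟩ := exists_prime_orderOf_dvd_card' (G := G') 2 h2dvd
  have hττ : τ * τ = 1 := by
    have h1 : (⟨τ, hτG⟩ : G') ^ 2 = 1 := by rw [← hτ, pow_orderOf_eq_one]
    rw [pow_two] at h1
    exact congrArg Subtype.val h1
  have hτ1 : τ ≠ 1 := by
    intro h
    have h1 : (⟨τ, hτG⟩ : G') = 1 := Subtype.ext h
    rw [h1, orderOf_one] at hτ
    omega
  obtain ⟨x, hx⟩ : ∃ x, τ x ≠ x := by
    by_contra hcon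
    push Not at hcon
    exact hτ1 (Equiv.ext hcon)
  obtain ⟨g, hg, hg0, hgi⟩ := htwo x (τ x) (Ne.symm hx)
  have hτx : τ (τ x) = x := by
    rw [← Equiv.Perm.mul_apply, hττ]; rfl
  refine ⟨e, g⁻¹ * τ * g, htr, haff, G'.mul_mem (G'.mul_mem (G'.inv_mem hg) hτG) hg, ?_, ?_, ?_⟩
  · rw [Equiv.Perm.mul_apply, Equiv.Perm.mul_apply, hg0, Equiv.Perm.inv_eq_iff_eq, hgi]
  · rw [Equiv.Perm.mul_apply, Equiv.Perm.mul_apply, hgi, hτx, Equiv.Perm.inv_eq_iff_eq, hg0]
  · calc g⁻¹ * τ * g * (g⁻¹ * τ * g) = g⁻¹ * (τ * τ) * g := by group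
      _ = 1 := by rw [hττ]; group

end Cfsg.Agent.PermutationGroups.PrimePlusOne.Setup
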