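import Cfsg.Agent.PermutationGroups.PrimePlusOne.Moebius

/-!
If the polynomial of a cocycle has degree at most `(p - 1) / 2` then `w x = s / x`.
-/

set_option autoImplicit false

namespace Cfsg.Agent.PermutationGroups.PrimePlusOne.SmallDegree

open Polynomial OnePoint Cfsg.Agent.PermutationGroups.PrimePlusOne.Basic
  Cfsg.Agent.PermutationGroups.PrimeDegree Cfsg.Agent.PermutationGroups.PrimePlusOne.Poly
  Cfsg.Agent.PermutationGroups.PrimePlusOne.Moebius

variable {p : ℕ} [hp : Fact p.Prime]
variable {G : Subgroup (Equiv.Perm (OnePoint (ZMod p)))} {w : Equiv.Perm (OnePoint (ZMod p))}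
variable {c : Equiv.Perm (OnePoint (ZMod p)) → OnePoint (ZMod p) → ZMod p}
variable {Q : (ZMod p)[X]}

/-- The images of the monomials under `w`. -/
theorem exists_g (S : Setting G w) (hc : IsCocycle G w c) (hQ : PolyData w c Q) (k : ℕ)
    (hk : 1 ≤ k) (hkD : k + 1 ≤ Q.natDegree) :
    ∃ g : (ZMod p)[X], g.natDegree + 1 ≤ Q.natDegree ∧
      ∀ x : ZMod p, g.eval x = Q.eval x * (fin (w (x : OnePoint (ZMod p)))) ^ k := by
  obtain ⟨v, hv, hvq, hv0⟩ := hQ.exists_mem_of_poly_lt S hc (X ^ k)
    (by rw [natDegree_X_pow]; omega)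
  obtain ⟨g, h1, h2, h3⟩ := hQ.exists_poly_of_mem S hc (act_mem_L hc S.w_mem hv)
  rw [act_w_infty S hc, hvq, eval_pow, eval_X, zero_pow (by omega), mul_zero] at h3
  refine ⟨g, ?_, fun x => ?_⟩
  · by_contra hcon
    have h4 : g.natDegree = Q.natDegree := by omega
    rw [← h4] at h3
    have h5 : g = 0 := Polynomial.leadingCoeff_eq_zero.1 h3
    rw [h5, natDegree_zero] at h4
    omega
  · rw [← h2]
    by_cases hx : x = 0
    · subst hx
      rw [act_w_zero S hc, hv0, hQ.eval_zero S hc, zero_mul]
    · rw [act_w_coe S, hQ.eval, act_w_delta_coe S hx]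
      congr 1
      rw [← S.coe_fin_w hx, hvq, eval_pow, eval_X, fin_coe]

theorem moebius_of_poly (S : Setting G w) (n : ℕ) (g : (ZMod p)[X])
    (r r' : ZMod p) (hr : r ≠ 0) (hQr : Q = C r * X ^ (n + 1)) (hg : g = C r' * X ^ n)
    (hgw : ∀ x : ZMod p, g.eval x = Q.eval x * fin (w (x : OnePoint (ZMod p)))) :
    ∃ s : ZMod p, s ≠ 0 ∧ ∀ x : ZMod p, x ≠ 0 →
      w (x : OnePoint (ZMod p)) = ((s * x⁻¹ : ZMod p) : OnePoint (ZMod p)) := by
  have key : ∀ x : ZMod p, x ≠ 0 → fin (w (x : OnePoint (ZMod p))) = (r' / r) * x⁻¹ := by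
    intro x hx
    have h1 := hgw x
    rw [hQr, hg] at h1
    simp only [eval_mul, eval_C, eval_pow, eval_X] at h1
    have hxn : x ^ n ≠ 0 := pow_ne_zero _ hx
    field_simp
    apply mul_left_cancel₀ hxn
    rw [pow_succ] at h1
    linear_combination -h1
  refine ⟨r' / r, ?_, fun x hx => ?_⟩
  · intro h0
    have h1 := key 1 one_ne_zero
    rw [h0, zero_mul] at h1
    exact S.fin_w_ne_zero one_ne_zero h1
  · rw [← key x hx, S.coe_fin_w hx]

theorem moebius_of_small (S : Setting G w) (hc : IsCocycle G w c) (hQ : PolyData w c Q)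
    (hD : 2 * Q.natDegree ≤ p - 1) :
    ∃ s : ZMod p, s ≠ 0 ∧ ∀ x : ZMod p, x ≠ 0 →
      w (x : OnePoint (ZMod p)) = ((s * x⁻¹ : ZMod p) : OnePoint (ZMod p)) := by
  have hroot : ∀ x, Q.eval x = 0 → x = 0 := by
    intro x hx
    by_contra h
    exact hQ.eval_ne S hc h hx
  have h0 : Q.eval 0 = 0 := hQ.eval_zero S hc
  have h1 := hQ.one_le S hc
  rcases Nat.lt_or_ge Q.natDegree 3 with hlt | hge
  · -- degrees 1 and 2
    rcases Nat.lt_or_ge Q.natDegree 2 with hlt' | hge'
    · -- degree 1
      have hd : Q.natDegree = 1 := by omega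
      obtain ⟨u, hu, hQu⟩ := linear_divisor Q Q hroot hd (dvd_refl Q)
      refine ⟨(u ^ 2)⁻¹, inv_ne_zero (pow_ne_zero _ hu), fun b hb => ?_⟩
      set v := act c (tr b) (act c w delta) with hv
      have hvL : v ∈ L G c := act_mem_L hc (S.tr_mem b) (act_mem_L hc S.w_mem (delta_mem_L hc))
      have hvx : ∀ x : ZMod p, v (x : OnePoint (ZMod p)) = u * (x - b) := by
        intro x
        rw [hv, act_tr_coe hc, ← hQ.eval, hQu]
        simp
      have hvi : v ∞ = 1 := by
        rw [hv, act_tr_infty hc, act_w_delta_infty S hc]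
      obtain ⟨q, hq1, hq2, hq3⟩ := hQ.exists_poly_of_mem S hc (act_mem_L hc S.w_mem hvL)
      rw [act_w_infty S hc, hvx, hd] at hq3
      have hq4 := hq2 0
      rw [act_w_zero S hc, hvi] at hq4
      have hq5 := Polynomial.eq_X_add_C_of_natDegree_le_one (hq1.trans hd.le)
      have hq6 : q.coeff 0 = 1 := by
        rw [hq5] at hq4
        simpa using hq4.symm
      have hQc : Q.coeff 1 = u := by
        rw [hQu]; simp
      rw [hQc] at hq3
      -- evaluate at `w b`
      have h7 := act_apply (c := c) w v (b : OnePoint (ZMod p))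
      rw [hvx, sub_self, mul_zero, mul_zero, ← S.coe_fin_w hb, hq2, hq5] at h7
      simp only [eval_add, eval_mul, eval_C, eval_X, hq6, hq3] at h7
      rw [← S.coe_fin_w hb]
      congr 1
      set y := fin (w (b : OnePoint (ZMod p))) with hy
      have h8 : u ^ 2 * b * y = 1 := by linear_combination -h7
      field_simp
      linear_combination h8
    · -- degree 2
      have hd : Q.natDegree = 2 := by omega
      obtain ⟨Q', hQ'⟩ : X ∣ Q := by
        rw [Polynomial.X_dvd_iff, Polynomial.coeff_zero_eq_eval_zero, h0]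
      have hQ'0 : Q' ≠ 0 := by
        rintro rfl
        rw [hQ', mul_zero, natDegree_zero] at hd
        omega
      have hd' : Q'.natDegree = 1 := by
        rw [hQ', natDegree_mul X_ne_zero hQ'0, natDegree_X] at hd
        omega
      obtain ⟨u, hu, hQu⟩ := linear_divisor Q Q' hroot hd' ⟨X, by rw [hQ', mul_comm]⟩
      obtain ⟨g, hg1, hg2⟩ := exists_g S hc hQ 1 le_rfl (by omega)
      have hg0 : g.coeff 0 = 0 := by
        rw [Polynomial.coeff_zero_eq_eval_zero, hg2, h0, zero_mul]
      have hgd : g.natDegree ≤ 1 := by omega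
      refine moebius_of_poly (Q := Q) S 1 g u (g.coeff 1) hu ?_ ?_ (fun x => ?_)
      · rw [hQ', hQu]; ring
      · conv_lhs => rw [Polynomial.eq_X_add_C_of_natDegree_le_one hgd, hg0]
        rw [C_0, add_zero, pow_one]
      · rw [hg2, pow_one]
  · -- degree at least 3
    obtain ⟨n, hn⟩ : ∃ n, Q.natDegree = n + 1 := ⟨Q.natDegree - 1, by omega⟩
    have hn2 : 2 ≤ n := by omega
    choose! g hg using fun k (hk : 1 ≤ k ∧ k + 1 ≤ Q.natDegree) => exists_g S hc hQ k hk.1 hk.2
    have hmul : ∀ i j, 1 ≤ i → 1 ≤ j → i + j ≤ n → g i * g j = g (i + j) * Q := by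
      intro i j hi hj hij
      have h2 := hg i ⟨hi, by omega⟩
      have h3 := hg j ⟨hj, by omega⟩
      have h4 := hg (i + j) ⟨by omega, by omega⟩
      apply poly_ext
      · refine le_trans natDegree_mul_le ?_
        omega
      · refine le_trans natDegree_mul_le ?_
        omega
      · intro x
        rw [eval_mul, eval_mul, h2.2, h3.2, h4.2]
        ring
    have hpow : ∀ k, 1 ≤ k → k ≤ n → g k * Q ^ (k - 1) = g 1 ^ k := by
      intro k hk
      induction k, hk using Nat.le_induction with
      | base => intro _; simp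
      | succ k hk ih =>
        intro hkn
        have h2 := ih (by omega)
        obtain ⟨m, rfl⟩ : ∃ m, k = m + 1 := ⟨k - 1, by omega⟩
        simp only [Nat.add_sub_cancel] at h2 ⊢
        have h3 := hmul (m + 1) 1 (by omega) le_rfl (by omega)
        calc g (m + 1 + 1) * Q ^ (m + 1) = (g (m + 1 + 1) * Q) * Q ^ m := by ring
          _ = (g (m + 1) * g 1) * Q ^ m := by rw [h3]
          _ = (g (m + 1) * Q ^ m) * g 1 := by ring
          _ = g 1 ^ (m + 1 + 1) := by rw [h2]; ring
    have hg1 := hg 1 ⟨le_rfl, by omega⟩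
    have hg1n : g 1 ≠ 0 := by
      intro h2
      have h3 := hg1.2 1
      rw [h2, eval_zero, pow_one] at h3
      rcases mul_eq_zero.1 h3.symm with h4 | h4
      · exact hQ.eval_ne S hc one_ne_zero h4
      · exact S.fin_w_ne_zero one_ne_zero h4
    obtain ⟨r, r', hr, hQr, hgr⟩ := poly_key n hn2 Q (g n) (g 1) hn (by omega)
      (hpow n (by omega) le_rfl) hg1n hroot
    refine moebius_of_poly S n (g 1) r r' hr hQr hgr (fun x => ?_)
    rw [hg1.2, pow_one]

/-- The pairing. -/
theorem sum_act (hc : IsCocycle G w c) {g : Equiv.Perm (OnePoint (ZMod p))} (hg : g ∈ G)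
    (u v : OnePoint (ZMod p) → ZMod p) :
    ∑ x, act c g u x * act (fun g x => (c g x)⁻¹) g v x = ∑ x, u x * v x := by
  rw [← Equiv.sum_comp g]
  refine Finset.sum_congr rfl fun x _ => ?_
  rw [act_apply, act_apply]
  have := hc.ne g hg x
  field_simp

theorem sum_option' (f : OnePoint (ZMod p) → ZMod p) :
    ∑ x, f x = f ∞ + ∑ x : ZMod p, f (x : OnePoint (ZMod p)) :=
  Fintype.sum_option (α := ZMod p) (f : Option (ZMod p) → ZMod p)

theorem sum_delta_delta : ∑ x : OnePoint (ZMod p), delta x * delta x = 0 := by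
  rw [sum_option', delta_infty]
  simp only [delta_coe]
  simp [ZMod.card]

/-- `L c` and `L c⁻¹` are orthogonal once the generators are. -/
theorem orthogonal (S : Setting G w) (hc : IsCocycle G w c)
    (h0 : ∑ x, delta x * act (fun g x => (c g x)⁻¹) w delta x = 0)
    {u v : OnePoint (ZMod p) → ZMod p} (hu : u ∈ L G c)
    (hv : v ∈ L G (fun g x => (c g x)⁻¹)) : ∑ x, u x * v x = 0 := by
  have hc' := hc.inv
  -- `delta` is orthogonal to the second module
  have h1 : ∀ v ∈ L G (fun g x => (c g x)⁻¹), ∑ x, delta x * v x = 0 := by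
    intro v hv
    induction hv using Submodule.span_induction with
    | mem v hv =>
      obtain ⟨g, hg, rfl⟩ := hv
      rcases act_delta_cases S hc' hg with ⟨r, hr⟩ | ⟨r, y, hr⟩
      · rw [hr]
        have h2 := sum_delta_delta (p := p)
        calc ∑ x, delta x * (r • delta) x = r * ∑ x : OnePoint (ZMod p), delta x * delta x := by
              rw [Finset.mul_sum]
              refine Finset.sum_congr rfl fun x _ => ?_
              rw [Pi.smul_apply, smul_eq_mul]; ring
          _ = 0 := by rw [h2, mul_zero]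
      · rw [hr]
        have h2 : act c (tr y) delta = delta := by
          ext x
          induction x using OnePoint.rec with
          | infty => rw [act_tr_infty hc]
          | coe x => rw [act_tr_coe hc, delta_coe, delta_coe]
        have h3 := sum_act hc (S.tr_mem y) delta
          (act (fun g x => (c g x)⁻¹) w delta)
        rw [h2] at h3
        calc ∑ x, delta x * (r • act (fun g x => (c g x)⁻¹) (tr y)
                (act (fun g x => (c g x)⁻¹) w delta)) x
            = r * ∑ x, delta x * act (fun g x => (c g x)⁻¹) (tr y)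
                (act (fun g x => (c g x)⁻¹) w delta) x := by
              rw [Finset.mul_sum]
              refine Finset.sum_congr rfl fun x _ => ?_
              rw [Pi.smul_apply, smul_eq_mul]; ring
          _ = 0 := by rw [h3, h0, mul_zero]
    | zero => simp
    | add u v _ _ hu hv =>
      simp only [Pi.add_apply, mul_add, Finset.sum_add_distrib, hu, hv, add_zero]
    | smul r v _ hv =>
      calc ∑ x, delta x * (r • v) x = r * ∑ x, delta x * v x := by
            rw [Finset.mul_sum]
            refine Finset.sum_congr rfl fun x _ => ?_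
            rw [Pi.smul_apply, smul_eq_mul]; ring
        _ = 0 := by rw [hv, mul_zero]
  induction hu using Submodule.span_induction with
  | mem u hu =>
    obtain ⟨g, hg, rfl⟩ := hu
    have h2 := sum_act hc hg delta (act (fun g x => (c g x)⁻¹) g⁻¹ v)
    rw [← act_mul hc' hg (G.inv_mem hg), mul_inv_cancel, act_one hc'] at h2
    rw [h2]
    exact h1 _ (act_mem_L hc' (G.inv_mem hg) hv)
  | zero => simp
  | add u u' _ _ hu hu' =>
    simp only [Pi.add_apply, add_mul, Finset.sum_add_distrib, hu, hu', add_zero]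
  | smul r u _ hu =>
    calc ∑ x, (r • u) x * v x = r * ∑ x, u x * v x := by
          rw [Finset.mul_sum]
          refine Finset.sum_congr rfl fun x _ => ?_
          rw [Pi.smul_apply, smul_eq_mul]; ring
      _ = 0 := by rw [hu, mul_zero]

theorem degree_add_le (S : Setting G w) (hc : IsCocycle G w c)
    (h0 : ∑ x, delta x * act (fun g x => (c g x)⁻¹) w delta x = 0)
    (hQ : PolyData w c Q) {Q' : (ZMod p)[X]} (hQ' : PolyData w (fun g x => (c g x)⁻¹) Q') :
    Q.natDegree + Q'.natDegree ≤ p - 1 := by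
  by_contra hcon
  have hQd := hQ.deg
  have hQd' := hQ'.deg
  have hpp := hp.out.pos
  obtain ⟨v, hv, hvq, hvi⟩ := hQ'.exists_mem_of_poly_lt S hc.inv (X ^ (p - 1 - Q.natDegree))
    (by rw [natDegree_X_pow]; omega)
  have h1 := orthogonal S hc h0 (act_mem_L hc S.w_mem (delta_mem_L hc)) hv
  rw [sum_option', hvi, mul_zero, zero_add] at h1
  have h2 : ∑ x : ZMod p, (Q * X ^ (p - 1 - Q.natDegree)).eval x = 0 := by
    rw [← h1]
    refine Finset.sum_congr rfl fun x _ => ?_
    rw [eval_mul, hQ.eval, hvq]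
  rw [sum_eval] at h2
  · have h3 : (Q * X ^ (p - 1 - Q.natDegree)).coeff (p - 1) = Q.coeff Q.natDegree := by
      have h4 : Q.natDegree + (p - 1 - Q.natDegree) = p - 1 := by omega
      have h5 := coeff_mul_X_pow Q (p - 1 - Q.natDegree) Q.natDegree
      rwa [h4] at h5
    rw [h3] at h2
    exact hQ.lead_ne S hc (neg_eq_zero.1 h2)
  · refine le_trans natDegree_mul_le ?_
    rw [natDegree_X_pow]
    omega

/-- If `w` does not centralise the stabiliser of `0` and `∞` then `w` is a Moebius
transformation. -/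
theorem moebius_of_not_central (S : Setting G w)
    {g : Equiv.Perm (OnePoint (ZMod p))} (hg : g ∈ G) (hgi : g ∞ = ∞)
    (hg0 : g ((0 : ZMod p) : OnePoint (ZMod p)) = ((0 : ZMod p) : OnePoint (ZMod p)))
    (hgw : w * g ≠ g * w) :
    ∃ s : ZMod p, s ≠ 0 ∧ ∀ x : ZMod p, x ≠ 0 →
      w (x : OnePoint (ZMod p)) = ((s * x⁻¹ : ZMod p) : OnePoint (ZMod p)) := by
  set c := coc w with hcdef
  have hc : IsCocycle G w c := S.isCocycle_coc
  set h := w * g * w with hh
  have hhG : h ∈ G := G.mul_mem (G.mul_mem S.w_mem hg) S.w_mem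
  have hhi : h ∞ = ∞ := by
    rw [hh, Equiv.Perm.mul_apply, Equiv.Perm.mul_apply, S.w_infty, hg0, S.w_zero]
  have hh0 : h ((0 : ZMod p) : OnePoint (ZMod p)) = ((0 : ZMod p) : OnePoint (ZMod p)) := by
    rw [hh, Equiv.Perm.mul_apply, Equiv.Perm.mul_apply, S.w_zero, hgi, S.w_infty]
  have hgw' : g * w = w * h := by
    rw [hh, ← mul_assoc, ← mul_assoc, S.w_sq, one_mul]
  have hwg' : w * g = h * w := by
    rw [hh, mul_assoc, S.w_sq, mul_one]
  -- the multipliers differ
  have hlam : lam g ≠ lam h := by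
    intro hl
    apply hgw
    obtain ⟨a, b, ha, hab⟩ := S.aff g hg hgi
    obtain ⟨a', b', ha', hab'⟩ := S.aff h hhG hhi
    rw [lam_of hab, lam_of hab'] at hl
    have hb : b = 0 := by
      have := hab 0
      rw [hg0, mul_zero, zero_add] at this
      exact (OnePoint.coe_injective this).symm
    have hb' : b' = 0 := by
      have := hab' 0
      rw [hh0, mul_zero, zero_add] at this
      exact (OnePoint.coe_injective this).symm
    have hgh : g = h := by
      apply Equiv.ext
      intro x
      induction x using OnePoint.rec with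
      | infty => rw [hgi, hhi]
      | coe x => rw [hab, hab', hl, hb, hb']
    rw [hwg', ← hgh]
  -- the values of the cocycle at `0`
  have hcg : c g ((0 : ZMod p) : OnePoint (ZMod p)) = lam h := by
    have h1 := hc.mul g hg w S.w_mem ∞
    rw [hgw', hc.mul w S.w_mem h hhG, hhi, hc.w_infty, S.w_infty, one_mul, mul_one] at h1
    rw [← h1, hcdef, Setting.coc_infty hhi]
  have hch : c h ((0 : ZMod p) : OnePoint (ZMod p)) = lam g := by
    have h1 := hc.mul h hhG w S.w_mem ∞
    rw [← hwg', hc.mul w S.w_mem g hg, hgi, hc.w_infty, S.w_infty, one_mul, mul_one] at h1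
    rw [← h1, hcdef, Setting.coc_infty hgi]
  have hlg : lam g ≠ 0 := S.lam_ne_zero hg hgi
  have hlh : lam h ≠ 0 := S.lam_ne_zero hhG hhi
  have hc' := hc.inv
  have h0 : ∑ x, delta x * act (fun g x => (c g x)⁻¹) w delta x = 0 := by
    have h1 := sum_act hc hg delta (act (fun g x => (c g x)⁻¹) w delta)
    rw [← act_mul hc' hg S.w_mem, hgw', act_mul hc' S.w_mem hhG, act_affine_delta S hc hg hgi,
      act_affine_delta S hc' hhG hhi, hcg, hch, _root_.map_smul] at h1
    have h2 : ∑ x, (lam h • delta) x *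
        ((lam g)⁻¹ • act (fun g x => (c g x)⁻¹) w delta) x =
        (lam h * (lam g)⁻¹) * ∑ x, delta x * act (fun g x => (c g x)⁻¹) w delta x := by
      rw [Finset.mul_sum]
      refine Finset.sum_congr rfl fun x _ => ?_
      rw [Pi.smul_apply, Pi.smul_apply, smul_eq_mul, smul_eq_mul]; ring
    rw [h2] at h1
    have h3 : (lam h * (lam g)⁻¹ - 1) *
        ∑ x, delta x * act (fun g x => (c g x)⁻¹) w delta x = 0 := by
      rw [sub_mul, one_mul, h1, sub_self]
    rcases mul_eq_zero.1 h3 with h4 | h4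
    · exfalso
      apply hlam
      have h5 : lam h * (lam g)⁻¹ = 1 := sub_eq_zero.1 h4
      field_simp at h5
      exact h5.symm
    · exact h4
  obtain ⟨Q, hQ⟩ := exists_polyData w c
  obtain ⟨Q', hQ'⟩ := exists_polyData w (fun g x => (c g x)⁻¹)
  have h1 := degree_add_le S hc h0 hQ hQ'
  rcases Nat.le_total Q.natDegree Q'.natDegree with h2 | h2
  · exact moebius_of_small S hc hQ (by omega)
  · exact moebius_of_small S hc' hQ' (by omega)

end Cfsg.Agent.PermutationGroups.PrimePlusOne.SmallDegree
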